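import Groth.Prelude.Def_CAlgX
import Mathlib.RingTheory.AdicCompletion.Completeness
import Mathlib.RingTheory.AdicCompletion.Algebra

/-!
# Adic formal smoothness and completion (helper72)
-/

set_option autoImplicit false
universe u

open CAlgX

namespace K72.AdicCpl

section

variable {S : Type u} [CommRing S] {𝔫 : Ideal S}

theorem evalₐ_algebraMap (m : ℕ) (s : S) :
    AdicCompletion.evalₐ 𝔫 m (algebraMap S (AdicCompletion 𝔫 S) s) = Ideal.Quotient.mk (𝔫 ^ m) s := by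
  rw [AlgHom.commutes]; rfl

/-- Density of `S` in its completion. -/
theorem exists_sub_mem (h : 𝔫.FG) (m : ℕ) (x : AdicCompletion 𝔫 S) :
    ∃ s : S, x - algebraMap S (AdicCompletion 𝔫 S) s ∈
      (𝔫.map (algebraMap S (AdicCompletion 𝔫 S))) ^ m := by
  obtain ⟨s, hs⟩ := Ideal.Quotient.mk_surjective (AdicCompletion.evalₐ 𝔫 m x)
  refine ⟨s, ?_⟩
  have h1 : AdicCompletion.evalₐ 𝔫 m (x - algebraMap S (AdicCompletion 𝔫 S) s) = 0 := by
    rw [map_sub, evalₐ_algebraMap, hs, sub_self]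
  have h2 : x - algebraMap S (AdicCompletion 𝔫 S) s ∈ (AdicCompletion.eval 𝔫 S m).ker := by
    rw [LinearMap.mem_ker]
    have h3 : (𝔫 ^ m) ≤ 𝔫 ^ m • (⊤ : Submodule S S) := by simp
    rw [← AdicCompletion.factor_evalₐ_eq_eval _ _ h3, h1, map_zero]
  rw [← AdicCompletion.pow_smul_top_eq_ker_eval h] at h2
  rw [← Ideal.map_pow]
  refine Submodule.smul_induction_on (p := fun y => y ∈ (𝔫 ^ m).map (algebraMap S (AdicCompletion 𝔫 S)))
    h2 ?_ ?_
  · intro a ha y _
    rw [Algebra.smul_def]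
    exact Ideal.mul_mem_right _ _ (Ideal.mem_map_of_mem _ ha)
  · intro x y hx hy
    exact Ideal.add_mem _ hx hy

/-- `𝔫^m Ŝ` is killed by the evaluation at `m`. -/
theorem evalₐ_eq_zero (m : ℕ) (x : AdicCompletion 𝔫 S)
    (hx : x ∈ (𝔫.map (algebraMap S (AdicCompletion 𝔫 S))) ^ m) : AdicCompletion.evalₐ 𝔫 m x = 0 := by
  rw [← Ideal.map_pow] at hx
  have h1 : (𝔫 ^ m).map (algebraMap S (AdicCompletion 𝔫 S)) ≤
      RingHom.ker (AdicCompletion.evalₐ 𝔫 m : AdicCompletion 𝔫 S →+* S ⧸ 𝔫 ^ m) := by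
    rw [Ideal.map_le_iff_le_comap]
    intro y hy
    rw [Ideal.mem_comap, RingHom.mem_ker]
    exact (evalₐ_algebraMap m y).trans (Ideal.Quotient.eq_zero_iff_mem.mpr hy)
  exact h1 hx

/-- Two ring maps out of the completion that agree on `S` and kill a power of `𝔫Ŝ` are equal. -/
theorem ringHom_ext (h : 𝔫.FG) {B : Type*} [CommRing B] (f g : AdicCompletion 𝔫 S →+* B) (m : ℕ)
    (hf : ∀ x ∈ (𝔫.map (algebraMap S (AdicCompletion 𝔫 S))) ^ m, f x = 0)
    (hg : ∀ x ∈ (𝔫.map (algebraMap S (AdicCompletion 𝔫 S))) ^ m, g x = 0)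
    (hfg : ∀ s : S, f (algebraMap S _ s) = g (algebraMap S _ s)) : f = g := by
  ext x
  obtain ⟨s, hs⟩ := exists_sub_mem h m x
  have h1 := hf _ hs
  have h2 := hg _ hs
  rw [map_sub, sub_eq_zero] at h1 h2
  rw [h1, h2, hfg]

/-- A ring map killing `𝔫^m` extends to the completion. -/
theorem exists_extend {B : Type*} [CommRing B] (f : S →+* B) (m : ℕ) (hf : ∀ x ∈ 𝔫 ^ m, f x = 0) :
    ∃ g : AdicCompletion 𝔫 S →+* B, (∀ s, g (algebraMap S _ s) = f s) ∧
      ∀ x ∈ (𝔫.map (algebraMap S (AdicCompletion 𝔫 S))) ^ m, g x = 0 := by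
  refine ⟨(Ideal.Quotient.lift (𝔫 ^ m) f hf).comp
    (AdicCompletion.evalₐ 𝔫 m : AdicCompletion 𝔫 S →+* S ⧸ 𝔫 ^ m), ?_, ?_⟩
  · intro s
    rw [RingHom.comp_apply]
    have := evalₐ_algebraMap (𝔫 := 𝔫) m s
    change Ideal.Quotient.lift (𝔫 ^ m) f hf (AdicCompletion.evalₐ 𝔫 m (algebraMap S _ s)) = f s
    rw [this, Ideal.Quotient.lift_mk]
  · intro x hx
    rw [RingHom.comp_apply]
    have := evalₐ_eq_zero m x hx
    change Ideal.Quotient.lift (𝔫 ^ m) f hf (AdicCompletion.evalₐ 𝔫 m x) = 0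
    rw [this, map_zero]

end

/-- A map into `A` whose reduction modulo a square-zero ideal kills `I^k` kills `I^(2k)`. -/
theorem kills_of_quotient {T A : Type*} [CommRing T] [CommRing A] (I : Ideal T) (J : Ideal A) (hJ : J ^ 2 = ⊥)
    (f : T →+* A) (k : ℕ) (hf : ∀ x ∈ I ^ k, Ideal.Quotient.mk J (f x) = 0) :
    ∀ x ∈ I ^ (2 * k), f x = 0 := by
  intro x hx
  have h1 : (I ^ k).map f ≤ J := by
    rw [Ideal.map_le_iff_le_comap]
    intro y hy
    rw [Ideal.mem_comap]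
    exact Ideal.Quotient.eq_zero_iff_mem.mp (hf y hy)
  have h2 : (I ^ (2 * k)).map f ≤ ⊥ := by
    rw [mul_comm, pow_mul, Ideal.map_pow, ← hJ]
    exact Ideal.pow_right_mono h1 2
  exact h2 (Ideal.mem_map_of_mem _ hx)

section

variable {R S : Type u} [CommRing R] [CommRing S] [Algebra R S] (𝔫 : Ideal S)

theorem iff_completion (h𝔫 : 𝔫.FG) :
    IsAdicFormallySmooth R S 𝔫 ↔
      IsAdicFormallySmooth R (AdicCompletion 𝔫 S) (𝔫.map (algebraMap S (AdicCompletion 𝔫 S))) := by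
  constructor
  · intro h A _ _ J hJ ψ ⟨k, hk⟩
    let ι : S →ₐ[R] AdicCompletion 𝔫 S := IsScalarTower.toAlgHom R S (AdicCompletion 𝔫 S)
    have hι : ∀ s, ι s = algebraMap S _ s := fun s => rfl
    obtain ⟨χ₀, hχ₀⟩ := h A J hJ (ψ.comp ι) ⟨k, fun x hx => by
      rw [AlgHom.comp_apply, hι]
      apply hk
      rw [← Ideal.map_pow]
      exact Ideal.mem_map_of_mem _ hx⟩
    have hχ₀' : ∀ s, Ideal.Quotient.mk J (χ₀ s) = ψ (algebraMap S _ s) := fun s => DFunLike.congr_fun hχ₀ s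
    have hkill := kills_of_quotient (𝔫) J hJ (χ₀ : S →+* A) k (fun x hx => by
      have h1 := hχ₀' x
      rw [RingHom.coe_coe, h1]
      apply hk
      rw [← Ideal.map_pow]
      exact Ideal.mem_map_of_mem _ hx)
    obtain ⟨g, hg, hg'⟩ := exists_extend (𝔫 := 𝔫) (χ₀ : S →+* A) (2 * k) hkill
    let χ : AdicCompletion 𝔫 S →ₐ[R] A :=
      { g with
        commutes' := fun r => by
          change g (algebraMap R (AdicCompletion 𝔫 S) r) = _
          rw [IsScalarTower.algebraMap_apply R S (AdicCompletion 𝔫 S), hg, RingHom.coe_coe, AlgHom.commutes] }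
    refine ⟨χ, ?_⟩
    have h1 : (Ideal.Quotient.mk J).comp g = (ψ : AdicCompletion 𝔫 S →+* A ⧸ J) := by
      refine ringHom_ext h𝔫 _ _ (2 * k) (fun x hx => ?_) (fun x hx => ?_) (fun s => ?_)
      · rw [RingHom.comp_apply, hg' x hx, map_zero]
      · exact hk x (Ideal.pow_le_pow_right (by omega) hx)
      · rw [RingHom.comp_apply, hg, RingHom.coe_coe, hχ₀', RingHom.coe_coe]
    ext x
    exact DFunLike.congr_fun h1 x
  · intro h A _ _ J hJ ψ ⟨k, hk⟩
    obtain ⟨g, hg, hg'⟩ := exists_extend (𝔫 := 𝔫) (ψ : S →+* A ⧸ J) k hk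
    let ψ' : AdicCompletion 𝔫 S →ₐ[R] A ⧸ J :=
      { g with
        commutes' := fun r => by
          change g (algebraMap R (AdicCompletion 𝔫 S) r) = _
          rw [IsScalarTower.algebraMap_apply R S (AdicCompletion 𝔫 S), hg, RingHom.coe_coe, AlgHom.commutes] }
    obtain ⟨χ, hχ⟩ := h A J hJ ψ' ⟨k, hg'⟩
    refine ⟨χ.comp (IsScalarTower.toAlgHom R S (AdicCompletion 𝔫 S)), ?_⟩
    ext s
    have h1 := DFunLike.congr_fun hχ (algebraMap S _ s)
    exact h1.trans (hg s)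

end

/-- Completing the base. -/
theorem iff_base {R T : Type u} [CommRing R] [CommRing T] (𝔪 : Ideal R) (h𝔪 : 𝔪.FG) [Algebra R T]
    (𝔱 : Ideal T) [Algebra (AdicCompletion 𝔪 R) T] [IsScalarTower R (AdicCompletion 𝔪 R) T]
    (hc : ∃ c : ℕ, (𝔪 ^ c).map (algebraMap R T) ≤ 𝔱) :
    IsAdicFormallySmooth R T 𝔱 ↔ IsAdicFormallySmooth (AdicCompletion 𝔪 R) T 𝔱 := by
  obtain ⟨c, hc⟩ := hc
  let Rh := AdicCompletion 𝔪 R
  have hcT : ∀ k : ℕ, ∀ x ∈ (𝔪.map (algebraMap R Rh)) ^ (c * k), algebraMap Rh T x ∈ 𝔱 ^ k := by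
    intro k x hx
    have h1 : ((𝔪.map (algebraMap R Rh)) ^ (c * k)).map (algebraMap Rh T) ≤ 𝔱 ^ k := by
      rw [Ideal.map_pow, Ideal.map_map, ← IsScalarTower.algebraMap_eq R Rh T, pow_mul, ← Ideal.map_pow]
      exact Ideal.pow_right_mono hc k
    exact h1 (Ideal.mem_map_of_mem _ hx)
  constructor
  · intro h A _ _ J hJ ψ ⟨k, hk⟩
    letI : Algebra R A := ((algebraMap Rh A).comp (algebraMap R Rh)).toAlgebra
    have htow : IsScalarTower R Rh A := IsScalarTower.of_algebraMap_eq fun r => rfl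
    obtain ⟨χ, hχ⟩ := h A J hJ (ψ.restrictScalars R) ⟨k, hk⟩
    have hχ' : ∀ x, Ideal.Quotient.mk J (χ x) = ψ x := fun x => DFunLike.congr_fun hχ x
    have h1 : ((χ : T →+* A).comp (algebraMap Rh T)) = algebraMap Rh A := by
      refine ringHom_ext h𝔪 _ _ (2 * (c * k)) ?_ ?_ ?_
      · refine kills_of_quotient (𝔪.map (algebraMap R Rh)) J hJ _ (c * k) (fun x hx => ?_)
        rw [RingHom.comp_apply, RingHom.coe_coe, hχ']
        exact hk _ (hcT k x hx)
      · refine kills_of_quotient (𝔪.map (algebraMap R Rh)) J hJ _ (c * k) (fun x hx => ?_)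
        have h2 : Ideal.Quotient.mk J (algebraMap Rh A x) = ψ (algebraMap Rh T x) := (ψ.commutes x).symm
        rw [h2]
        exact hk _ (hcT k x hx)
      · intro r
        rw [RingHom.comp_apply, ← IsScalarTower.algebraMap_apply R Rh T, RingHom.coe_coe, AlgHom.commutes]
        rfl
    refine ⟨{ (χ : T →+* A) with commutes' := fun r => DFunLike.congr_fun h1 r }, ?_⟩
    ext x
    exact hχ' x
  · intro h A _ _ J hJ ψ ⟨k, hk⟩
    -- `R → A` kills `𝔪 ^ (2ck)`
    have hRA : ∀ x ∈ 𝔪 ^ (2 * (c * k)), algebraMap R A x = 0 := by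
      refine kills_of_quotient 𝔪 J hJ _ (c * k) (fun x hx => ?_)
      have h2 : Ideal.Quotient.mk J (algebraMap R A x) = ψ (algebraMap R T x) := (ψ.commutes x).symm
      rw [h2]
      apply hk
      rw [IsScalarTower.algebraMap_apply R Rh T]
      apply hcT
      rw [← Ideal.map_pow]
      exact Ideal.mem_map_of_mem _ hx
    obtain ⟨g, hg, hg'⟩ := exists_extend (𝔫 := 𝔪) (algebraMap R A) (2 * (c * k)) hRA
    letI : Algebra Rh A := g.toAlgebra
    have hgA : ∀ x : Rh, algebraMap Rh A x = g x := fun x => rfl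
    have htow : IsScalarTower R Rh A := IsScalarTower.of_algebraMap_eq fun r => by
      rw [hgA, hg]
    have h1 : ((ψ : T →+* A ⧸ J).comp (algebraMap Rh T)) = (Ideal.Quotient.mk J).comp g := by
      refine ringHom_ext h𝔪 _ _ (2 * (c * k)) ?_ ?_ ?_
      · intro x hx
        rw [RingHom.comp_apply, RingHom.coe_coe]
        exact hk _ (hcT k x (Ideal.pow_le_pow_right (by omega) hx))
      · intro x hx
        rw [RingHom.comp_apply, hg' x hx, map_zero]
      · intro r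
        rw [RingHom.comp_apply, ← IsScalarTower.algebraMap_apply R Rh T, RingHom.coe_coe, AlgHom.commutes,
          RingHom.comp_apply, hg]
        rfl
    let ψ' : T →ₐ[Rh] A ⧸ J := { (ψ : T →+* A ⧸ J) with commutes' := fun r => DFunLike.congr_fun h1 r }
    obtain ⟨χ, hχ⟩ := h A J hJ ψ' ⟨k, hk⟩
    refine ⟨χ.restrictScalars R, ?_⟩
    ext x
    exact DFunLike.congr_fun hχ x

end K72.AdicCpl
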