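import Groth.Agent.Ega41.AdicRed
import Mathlib.RingTheory.LocalRing.ResidueField.Basic
import Mathlib.RingTheory.LocalRing.RingHom.Basic
import Mathlib.RingTheory.Ideal.Quotient.Nilpotent

/-!
# Adic formal smoothness of a local homomorphism: reduction to local test rings (helper72)
-/

set_option autoImplicit false
universe u

open IsLocalRing CAlgX Groth.Agent.Ega41.AdicRed

namespace K72.AdicLocal

section

variable {R S : Type u} [CommRing R] [CommRing S] [IsLocalRing R] [IsLocalRing S] [Algebra R S]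
  [IsLocalHom (algebraMap R S)]

/-- It suffices to lift along square-zero ideals `J` of local rings `C` with nilpotent maximal ideal annihilating
`J`, for surjective `ψ : S → C/J`. -/
theorem isAdicFormallySmooth_of_local {R S : Type u} [CommRing R] [CommRing S] [IsLocalRing S] [Algebra R S]
    [IsLocalHom (algebraMap R S)]
    (H : ∀ (C : Type u) [CommRing C] [IsLocalRing C] [Algebra R C] [IsLocalHom (algebraMap R C)]
      (J : Ideal C), J ^ 2 = ⊥ → J ≤ maximalIdeal C → maximalIdeal C * J = ⊥ →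
      (∃ n : ℕ, maximalIdeal C ^ n = ⊥) →
      ∀ (ψ : S →ₐ[R] C ⧸ J), Function.Surjective ψ → (∃ k : ℕ, ∀ x ∈ maximalIdeal S ^ k, ψ x = 0) →
        ∃ χ : S →ₐ[R] C, (Ideal.Quotient.mkₐ R J).comp χ = ψ) :
    IsAdicFormallySmooth R S (maximalIdeal S) := by
  apply isAdicFormallySmooth_of_small
  intro C D _ _ _ _ q u hs ⟨k, hk⟩
  rcases subsingleton_or_nontrivial D with hD | hD
  · -- trivial case
    have hC : Subsingleton C := by
      have h1 : (1 : C) * 1 = 0 := hs.sq 1 1 (Subsingleton.elim _ _) (Subsingleton.elim _ _)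
      rw [mul_one] at h1
      exact subsingleton_of_zero_eq_one h1.symm
    refine ⟨{ toFun := fun _ => 0, map_one' := Subsingleton.elim _ _, map_mul' := fun _ _ => by simp,
              map_zero' := rfl, map_add' := fun _ _ => by simp, commutes' := fun _ => Subsingleton.elim _ _ }, ?_⟩
    ext x
    exact Subsingleton.elim _ _
  -- the local ring `C' = q⁻¹(u(S))`
  let D' : Subalgebra R D := u.range
  let C' : Subalgebra R C := D'.comap q
  let q' : C' →ₐ[R] D' := (q.comp C'.val).codRestrict D' (fun x => x.2)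
  have hq' : Function.Surjective q' := by
    rintro ⟨d, hd⟩
    obtain ⟨c, rfl⟩ := hs.surj d
    exact ⟨⟨c, hd⟩, rfl⟩
  let u' : S →ₐ[R] D' := u.rangeRestrict
  have hu' : Function.Surjective u' := u.rangeRestrict_surjective
  have hD' : IsLocalRing D' := IsLocalRing.of_surjective' (u' : S →+* D') hu'
  have hloc_q' : IsLocalHom (q' : C' →+* D') := by
    refine ⟨fun a ha => ?_⟩
    obtain ⟨b, hb⟩ := hq' (↑(ha.unit⁻¹) : D')
    have h1 : q' (a * b - 1) = 0 := by
      rw [map_sub, map_mul, hb, map_one, sub_eq_zero]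
      exact ha.mul_val_inv
    have h2 : q ((a * b - 1 : C') : C) = 0 := congrArg Subtype.val h1
    have h3 : ((a * b - 1 : C') : C) * ((a * b - 1 : C') : C) = 0 := hs.sq _ _ h2 h2
    have h4 : (a * b - 1) * (a * b - 1) = 0 := Subtype.ext h3
    have h5 : IsUnit (1 + (a * b - 1)) := IsNilpotent.isUnit_one_add ⟨2, by rw [pow_two, h4]⟩
    rw [add_sub_cancel] at h5
    exact isUnit_of_mul_isUnit_left h5
  have hC' : IsLocalRing C' := (q' : C' →+* D').domain_isLocalRing
  have hloc_u' : IsLocalHom (u' : S →+* D') := by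
    exact IsLocalHom.of_surjective _ hu'
  have hRC : IsLocalHom (algebraMap R C') := by
    refine ⟨fun r hr => ?_⟩
    have h1 : IsUnit (algebraMap R D' r) := by
      have := hr.map (q' : C' →+* D')
      rwa [RingHom.coe_coe, AlgHom.commutes] at this
    have h2 : IsUnit ((u' : S →+* D') (algebraMap R S r)) := by
      rwa [RingHom.coe_coe, AlgHom.commutes]
    exact isUnit_of_map_unit _ _ (isUnit_of_map_unit (u' : S →+* D') _ h2)
  let J : Ideal C' := RingHom.ker (q' : C' →+* D')
  have hJmem : ∀ x : C', x ∈ J ↔ q (x : C) = 0 := by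
    intro x
    rw [RingHom.mem_ker]
    exact ⟨fun h => congrArg Subtype.val h, fun h => Subtype.ext h⟩
  have hJ2 : J ^ 2 = ⊥ := by
    rw [pow_two, eq_bot_iff, Ideal.mul_le]
    intro x hx y hy
    rw [Ideal.mem_bot]
    exact Subtype.ext (hs.sq _ _ ((hJmem x).mp hx) ((hJmem y).mp hy))
  have hJm : J ≤ maximalIdeal C' := IsLocalRing.le_maximalIdeal (by
    intro h
    have h1 : (1 : C') ∈ J := h ▸ Submodule.mem_top
    have h2 := (hJmem 1).mp h1
    simp at h2)
  -- elements of the maximal ideal of `C'`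
  have hmax : ∀ x : C', x ∈ maximalIdeal C' → ∃ s ∈ maximalIdeal S, q (x : C) = u s := by
    intro x hx
    obtain ⟨s, hs'⟩ := x.2
    refine ⟨s, ?_, hs'.symm⟩
    by_contra hns
    have hsu : IsUnit s := by
      rw [IsLocalRing.mem_maximalIdeal, mem_nonunits_iff, not_not] at hns; exact hns
    have h1 : q' x = u' s := Subtype.ext hs'.symm
    have h2 : IsUnit ((q' : C' →+* D') x) := by
      rw [RingHom.coe_coe, h1]
      exact hsu.map u'
    exact (IsLocalRing.mem_maximalIdeal _).mp hx (isUnit_of_map_unit _ _ h2)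
  have hmJ : maximalIdeal C' * J = ⊥ := by
    rw [eq_bot_iff, Ideal.mul_le]
    intro x hx y hy
    rw [Ideal.mem_bot]
    obtain ⟨s, hsm, hqs⟩ := hmax x hx
    exact Subtype.ext (hs.kill s hsm x hqs y ((hJmem y).mp hy))
  have hnil : ∃ n : ℕ, maximalIdeal C' ^ n = ⊥ := by
    refine ⟨2 * k, ?_⟩
    have h1 : (maximalIdeal C').map (q' : C' →+* D') ≤ (maximalIdeal S).map (u' : S →+* D') := by
      rw [Ideal.map_le_iff_le_comap]
      intro x hx
      obtain ⟨s, hsm, hqs⟩ := hmax x hx
      have h2 : (q' : C' →+* D') x = (u' : S →+* D') s := Subtype.ext hqs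
      rw [Ideal.mem_comap, h2]
      exact Ideal.mem_map_of_mem _ hsm
    have h3 : ((maximalIdeal S) ^ k).map (u' : S →+* D') = ⊥ := by
      rw [eq_bot_iff, Ideal.map_le_iff_le_comap]
      intro x hx
      rw [Ideal.mem_comap, Ideal.mem_bot]
      exact Subtype.ext (hk x hx)
    have h4 : maximalIdeal C' ^ k ≤ J := by
      have h5 : (maximalIdeal C' ^ k).map (q' : C' →+* D') ≤ ⊥ := by
        rw [Ideal.map_pow]
        refine (Ideal.pow_right_mono h1 k).trans ?_
        rw [← Ideal.map_pow, h3]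
      rw [Ideal.map_le_iff_le_comap] at h5
      exact h5
    rw [mul_comm, pow_mul, eq_bot_iff]
    exact (Ideal.pow_right_mono h4 2).trans hJ2.le
  let e : (C' ⧸ J) ≃ₐ[R] D' := Ideal.quotientKerAlgEquivOfSurjective hq'
  have he : ∀ c : C', e (Ideal.Quotient.mk J c) = q' c := fun c => rfl
  obtain ⟨χ, hχ⟩ := H C' J hJ2 hJm hmJ hnil ((e.symm : D' →ₐ[R] C' ⧸ J).comp u')
    (e.symm.surjective.comp hu') ⟨k, fun x hx => by
      have h1 : u' x = 0 := Subtype.ext (hk x hx)
      rw [AlgHom.comp_apply, h1, map_zero]⟩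
  refine ⟨C'.val.comp χ, ?_⟩
  ext s
  have h1 := DFunLike.congr_fun hχ s
  have h2 : e (Ideal.Quotient.mk J (χ s)) = u' s := by
    have h3 : Ideal.Quotient.mk J (χ s) = e.symm (u' s) := h1
    rw [h3, AlgEquiv.apply_symm_apply]
  rw [he] at h2
  exact congrArg Subtype.val h2

/-- The forward direction: lifting for local test situations. -/
theorem exists_lift_of_local (h : IsAdicFormallySmooth R S (maximalIdeal S))
    (A : Type u) [CommRing A] [IsLocalRing A] [Algebra R A] (J : Ideal A) (hJ : J ^ 2 = ⊥)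
    (hn : ∃ n : ℕ, maximalIdeal A ^ n = ⊥) [IsLocalRing (A ⧸ J)] (ψ : S →ₐ[R] A ⧸ J)
    [IsLocalHom ψ.toRingHom] : ∃ χ : S →ₐ[R] A, (Ideal.Quotient.mkₐ R J).comp χ = ψ := by
  obtain ⟨n, hn⟩ := hn
  refine h A J hJ ψ ⟨n, fun x hx => ?_⟩
  have h1 : (maximalIdeal S).map ψ.toRingHom ≤ (maximalIdeal A).map (Ideal.Quotient.mk J) := by
    rw [Ideal.map_le_iff_le_comap]
    intro y hy
    obtain ⟨a, ha⟩ := Ideal.Quotient.mk_surjective (ψ.toRingHom y)
    have h2 : ψ.toRingHom y ∈ maximalIdeal (A ⧸ J) := by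
      have h3 : (maximalIdeal (A ⧸ J)).comap ψ.toRingHom = maximalIdeal S :=
        ((IsLocalRing.local_hom_TFAE ψ.toRingHom).out 0 4).mp ‹IsLocalHom ψ.toRingHom›
      rw [← h3] at hy
      exact hy
    rw [Ideal.mem_comap, ← ha]
    apply Ideal.mem_map_of_mem
    rw [← ha] at h2
    rw [IsLocalRing.mem_maximalIdeal, mem_nonunits_iff] at h2 ⊢
    exact fun hu => h2 (hu.map _)
  have h3 : (maximalIdeal S ^ n).map ψ.toRingHom ≤ ⊥ := by
    rw [Ideal.map_pow]
    refine (Ideal.pow_right_mono h1 n).trans ?_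
    rw [← Ideal.map_pow, hn, Ideal.map_bot]
  exact h3 (Ideal.mem_map_of_mem _ hx)

/-- A surjective homomorphism of local rings induces a bijection on residue fields. -/
theorem bijective_residue {A B : Type*} [CommRing A] [CommRing B] [IsLocalRing A] [IsLocalRing B]
    (f : A →+* B) [IsLocalHom f] (hf : Function.Surjective f) :
    Function.Bijective (ResidueField.map f) := by
  refine ⟨(ResidueField.map f).injective, fun y => ?_⟩
  obtain ⟨b, rfl⟩ := residue_surjective y
  obtain ⟨a, rfl⟩ := hf b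
  exact ⟨residue A a, ResidueField.map_residue f a⟩

end

end K72.AdicLocal
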