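import Groth.Prelude.Def_CAlgX
import Groth.Agent.Ega41.MvPS
import Groth.Agent.Ega41.PowEval
import Mathlib.RingTheory.Smooth.Basic

/-!
# Adic formal smoothness of power series rings (helper72)
-/

set_option autoImplicit false
universe u

open CAlgX MvPowerSeries Groth.Agent.Ega41.MvPS Groth.Agent.Ega41.PowEval

namespace K72.AdicPower

/-- A ring is complete for a nilpotent ideal. -/
theorem isAdicComplete_of_pow_eq_bot {A : Type*} [CommRing A] (I : Ideal A) (N : ℕ) (hN : I ^ N = ⊥) :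
    IsAdicComplete I A where
  haus' x hx := by
    have h := hx N
    rw [hN, Submodule.bot_smul] at h
    exact (SModEq.bot).mp h
  prec' f hf := by
    refine ⟨f N, fun n => ?_⟩
    rcases le_total n N with h | h
    · exact hf h
    · have h1 := hf h
      have h2 : f N = f n := by
        rw [hN, Submodule.bot_smul] at h1
        exact (SModEq.bot).mp h1
      rw [h2]

/-- A formally smooth algebra is formally smooth for every adic topology. -/
theorem of_formallySmooth {R S : Type u} [CommRing R] [CommRing S] [Algebra R S]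
    [Algebra.FormallySmooth R S] (𝔫 : Ideal S) : IsAdicFormallySmooth R S 𝔫 := by
  intro A _ _ J hJ ψ _
  exact ⟨Algebra.FormallySmooth.lift J ⟨2, hJ⟩ ψ, Algebra.FormallySmooth.comp_lift J ⟨2, hJ⟩ ψ⟩

/-- Power series rings over an adically formally smooth algebra. -/
theorem mvPowerSeries {R Λ : Type u} [CommRing R] [CommRing Λ] [Algebra R Λ] (𝔩 : Ideal Λ)
    (h : IsAdicFormallySmooth R Λ 𝔩) (n : ℕ) (𝔟 : Ideal (MvPowerSeries (Fin n) Λ))
    (h1 : 𝔩.map (C (σ := Fin n) (R := Λ)) ≤ 𝔟) (h2 : ∀ i, (X i : MvPowerSeries (Fin n) Λ) ∈ 𝔟) :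
    IsAdicFormallySmooth R (MvPowerSeries (Fin n) Λ) 𝔟 := by
  intro A _ _ J hJ ψ ⟨k, hk⟩
  -- lift on constants
  let c : Λ →ₐ[R] MvPowerSeries (Fin n) Λ := IsScalarTower.toAlgHom R Λ _
  have hc : ∀ l, c l = C (σ := Fin n) l := fun l => rfl
  obtain ⟨v, hv⟩ := h A J hJ (ψ.comp c) ⟨k, fun x hx => by
    rw [AlgHom.comp_apply, hc]
    apply hk
    have h3 : (𝔩 ^ k).map (C (σ := Fin n) (R := Λ)) ≤ 𝔟 ^ k := by
      rw [Ideal.map_pow]; exact Ideal.pow_right_mono h1 k
    exact h3 (Ideal.mem_map_of_mem _ hx)⟩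
  have hv' : ∀ l, Ideal.Quotient.mk J (v l) = ψ (C (σ := Fin n) l) := fun l => DFunLike.congr_fun hv l
  choose a ha using fun i : Fin n => Ideal.Quotient.mk_surjective (ψ (X i))
  -- the ideal `J + (a)` is nilpotent
  let I : Ideal A := J ⊔ Ideal.span (Set.range a)
  have hI : I ^ (2 * k) = ⊥ := by
    have h3 : I ^ k ≤ J := by
      have h4 : (I ^ k).map (Ideal.Quotient.mk J) ≤ ⊥ := by
        have h5 : I.map (Ideal.Quotient.mk J) ≤ 𝔟.map (ψ : MvPowerSeries (Fin n) Λ →+* A ⧸ J) := by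
          rw [Ideal.map_sup, Ideal.map_quotient_self, bot_sup_eq, Ideal.map_span, Ideal.span_le]
          rintro _ ⟨_, ⟨i, rfl⟩, rfl⟩
          rw [ha]
          exact Ideal.mem_map_of_mem (ψ : MvPowerSeries (Fin n) Λ →+* A ⧸ J) (h2 i)
        rw [Ideal.map_pow]
        refine (Ideal.pow_right_mono h5 k).trans ?_
        rw [← Ideal.map_pow, Ideal.map_le_iff_le_comap]
        intro x hx
        exact hk x hx
      rw [Ideal.map_le_iff_le_comap] at h4
      intro x hx
      exact Ideal.Quotient.eq_zero_iff_mem.mp (h4 hx)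
    rw [mul_comm, pow_mul, eq_bot_iff, ← hJ]
    exact Ideal.pow_right_mono h3 2
  have haI : ∀ i, a i ∈ I := fun i => (le_sup_right : _ ≤ I) (Ideal.subset_span ⟨i, rfl⟩)
  letI algΛA : Algebra Λ A := v.toRingHom.toAlgebra
  have htow : IsScalarTower R Λ A := IsScalarTower.of_algebraMap_eq fun r => (v.commutes r).symm
  have hcomp : IsAdicComplete I A := isAdicComplete_of_pow_eq_bot I (2 * k) hI
  let e : MvPowerSeries (Fin n) Λ →ₐ[Λ] A := powEval I a haI
  refine ⟨e.restrictScalars R, ?_⟩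
  -- compare the two maps modulo `J`
  have hX : ∀ N : ℕ, ∀ f ∈ varIdeal (Fin n) Λ ^ N, ∀ (g : MvPowerSeries (Fin n) Λ →+* A ⧸ J),
      (∀ i, g (X i) = ψ (X i)) → k ≤ N → g f = 0 := by
    intro N f hf g hg hN
    have h3 : (varIdeal (Fin n) Λ).map g ≤ 𝔟.map (ψ : MvPowerSeries (Fin n) Λ →+* A ⧸ J) := by
      rw [Ideal.map_span, Ideal.span_le]
      rintro _ ⟨_, ⟨i, rfl⟩, rfl⟩
      rw [hg]
      exact Ideal.mem_map_of_mem (ψ : MvPowerSeries (Fin n) Λ →+* A ⧸ J) (h2 i)
    have h4 : (varIdeal (Fin n) Λ ^ N).map g ≤ ⊥ := by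
      rw [Ideal.map_pow]
      refine (Ideal.pow_right_mono h3 N).trans ((Ideal.pow_le_pow_right hN).trans ?_)
      rw [← Ideal.map_pow, Ideal.map_le_iff_le_comap]
      intro x hx
      exact hk x hx
    exact h4 (Ideal.mem_map_of_mem _ hf)
  have hpoly : ∀ p : MvPolynomial (Fin n) Λ, Ideal.Quotient.mk J (e (p : MvPowerSeries (Fin n) Λ)) =
      ψ (p : MvPowerSeries (Fin n) Λ) := by
    intro p
    have h3 : ((Ideal.Quotient.mk J).comp (e : MvPowerSeries (Fin n) Λ →+* A)).comp
        (MvPolynomial.coeToMvPowerSeries.ringHom (σ := Fin n) (R := Λ)) =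
        (ψ : MvPowerSeries (Fin n) Λ →+* A ⧸ J).comp
          (MvPolynomial.coeToMvPowerSeries.ringHom (σ := Fin n) (R := Λ)) := by
      apply MvPolynomial.ringHom_ext
      · intro l
        simp only [RingHom.comp_apply, MvPolynomial.coeToMvPowerSeries.ringHom_apply,
          MvPolynomial.coe_C, RingHom.coe_coe]
        rw [← hv' l]
        congr 1
        exact powEval_C I a haI l
      · intro i
        simp only [RingHom.comp_apply, MvPolynomial.coeToMvPowerSeries.ringHom_apply,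
          MvPolynomial.coe_X, RingHom.coe_coe]
        rw [← ha i]
        congr 1
        exact powEval_X I a haI i
    exact DFunLike.congr_fun h3 p
  ext f
  change Ideal.Quotient.mk J (e f) = ψ f
  have h3 : f = (f - ((truncTotal k f : MvPolynomial (Fin n) Λ) : MvPowerSeries (Fin n) Λ)) +
      ((truncTotal k f : MvPolynomial (Fin n) Λ) : MvPowerSeries (Fin n) Λ) := by ring
  have hmem := sub_truncTotal_mem k f
  have h4 := hX k _ hmem ((Ideal.Quotient.mk J).comp (e : MvPowerSeries (Fin n) Λ →+* A)) (fun i => by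
    rw [RingHom.comp_apply, ← ha i]
    congr 1
    exact powEval_X I a haI i) le_rfl
  have h5 := hX k _ hmem (ψ : MvPowerSeries (Fin n) Λ →+* A ⧸ J) (fun i => rfl) le_rfl
  rw [map_sub, sub_eq_zero] at h4 h5
  have h6 : Ideal.Quotient.mk J (e f) = Ideal.Quotient.mk J (e (truncTotal k f : MvPolynomial (Fin n) Λ)) := h4
  have h7 : ψ f = ψ ((truncTotal k f : MvPolynomial (Fin n) Λ) : MvPowerSeries (Fin n) Λ) := h5
  rw [h6, h7, hpoly]

end K72.AdicPower
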