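import Mathlib.RingTheory.Derivation.ToSquareZero
import Mathlib.Algebra.MvPolynomial.Derivation
import Mathlib.LinearAlgebra.Dual.Lemmas
import Mathlib.RingTheory.Ideal.Quotient.Operations
import Mathlib.Algebra.Module.Torsion.Basic
import Mathlib.RingTheory.LocalRing.ResidueField.Basic
import Mathlib.LinearAlgebra.TensorProduct.Tower
import Mathlib.RingTheory.TensorProduct.Basic
import Mathlib.LinearAlgebra.Basis.VectorSpace

/-!
# Lifting along a square-zero vector-space kernel: hyperplanes suffice (helper72)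
-/

set_option autoImplicit false
universe u v w

open TensorProduct

namespace K72.AdicSmall

/-- Factorization of linear maps of vector spaces. -/
theorem exists_comp_eq {κ V W J : Type*} [Field κ] [AddCommGroup V] [AddCommGroup W] [AddCommGroup J]
    [Module κ V] [Module κ W] [Module κ J] (Γ : V →ₗ[κ] W) (Φ : V →ₗ[κ] J)
    (h : LinearMap.ker Γ ≤ LinearMap.ker Φ) : ∃ ℓ : W →ₗ[κ] J, ∀ v, ℓ (Γ v) = Φ v := by
  let Γ' : V ⧸ LinearMap.ker Γ →ₗ[κ] W := (LinearMap.ker Γ).liftQ Γ le_rfl
  have hΓ' : LinearMap.ker Γ' = ⊥ := Submodule.ker_liftQ_eq_bot _ _ _ le_rfl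
  obtain ⟨g, hg⟩ := Γ'.exists_leftInverse_of_injective hΓ'
  refine ⟨((LinearMap.ker Γ).liftQ Φ h).comp g, fun v => ?_⟩
  have h1 : g (Γ v) = Submodule.Quotient.mk v := by
    have := DFunLike.congr_fun hg (Submodule.Quotient.mk v)
    exact this
  rw [LinearMap.comp_apply, h1]
  rfl

/-- Version over a ring `P` acting through the field `κ`. -/
theorem exists_comp_eq' {P κ I W J : Type*} [CommRing P] [Field κ] [Algebra P κ] [AddCommGroup I]
    [AddCommGroup W] [AddCommGroup J] [Module P I] [Module κ W] [Module κ J] [Module P W] [Module P J]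
    [IsScalarTower P κ W] [IsScalarTower P κ J] (hs : Function.Surjective (algebraMap P κ))
    (Γ : I →ₗ[P] W) (Φ : I →ₗ[P] J) (h : ∀ x, Γ x = 0 → Φ x = 0) :
    ∃ ℓ : W →ₗ[κ] J, ∀ v, ℓ (Γ v) = Φ v := by
  have hker : LinearMap.ker (Γ.liftBaseChange κ) ≤ LinearMap.ker (Φ.liftBaseChange κ) := by
    intro t ht
    obtain ⟨x, rfl⟩ := TensorProduct.mk_surjective P I κ hs t
    rw [LinearMap.mem_ker, TensorProduct.mk_apply, LinearMap.liftBaseChange_tmul, one_smul] at ht ⊢
    exact h x ht
  obtain ⟨ℓ, hℓ⟩ := exists_comp_eq _ _ hker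
  refine ⟨ℓ, fun v => ?_⟩
  have := hℓ (1 ⊗ₜ v)
  rwa [LinearMap.liftBaseChange_tmul, LinearMap.liftBaseChange_tmul, one_smul, one_smul] at this

section

variable {R : Type u} {S : Type v} {C : Type w} [CommRing R] [CommRing S] [CommRing C] [Algebra R S] [Algebra R C]
  (J : Ideal C) {κ : Type*} [Field κ] [Algebra C κ] [Module κ J] [IsScalarTower C κ J]

/-- The ideal of `C` cut out by a linear form on `J`. -/
def kerIdeal (l : J →ₗ[κ] κ) : Ideal C := (LinearMap.ker (l.restrictScalars C)).map J.subtype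

variable {J}

theorem mem_kerIdeal (l : J →ₗ[κ] κ) (x : C) : x ∈ kerIdeal J l ↔ ∃ h : x ∈ J, l ⟨x, h⟩ = 0 := by
  constructor
  · rintro ⟨y, hy, rfl⟩
    exact ⟨y.2, hy⟩
  · rintro ⟨h, hx⟩
    exact ⟨⟨x, h⟩, hx, rfl⟩

theorem kerIdeal_le (l : J →ₗ[κ] κ) : kerIdeal J l ≤ J := fun x hx => ((mem_kerIdeal l x).mp hx).1

theorem kerIdeal_covBy (hκ : Function.Surjective (algebraMap C κ)) (l : J →ₗ[κ] κ) (hl : l ≠ 0) :
    kerIdeal J l ⋖ J := by
  refine ⟨lt_of_le_of_ne (kerIdeal_le l) ?_, ?_⟩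
  · intro h
    apply hl
    ext x
    have hx : (x : C) ∈ kerIdeal J l := by rw [h]; exact x.2
    exact ((mem_kerIdeal l _).mp hx).2
  · intro L hL1 hL2
    obtain ⟨x, hxL, hxK⟩ := SetLike.exists_of_lt hL1
    have hxJ : x ∈ J := hL2.le hxL
    have hlx : l ⟨x, hxJ⟩ ≠ 0 := fun h => hxK ((mem_kerIdeal l x).mpr ⟨hxJ, h⟩)
    apply hL2.not_ge
    intro y hy
    obtain ⟨c, hc⟩ := hκ (l ⟨y, hy⟩ / l ⟨x, hxJ⟩)
    have h1 : y - c * x ∈ kerIdeal J l := by
      rw [mem_kerIdeal]
      refine ⟨J.sub_mem hy (J.mul_mem_left _ hxJ), ?_⟩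
      have h2 : (⟨y - c * x, J.sub_mem hy (J.mul_mem_left _ hxJ)⟩ : J) = ⟨y, hy⟩ - c • ⟨x, hxJ⟩ := rfl
      rw [h2, map_sub, ← algebraMap_smul κ c, map_smul, hc, smul_eq_mul, div_mul_cancel₀ _ hlx, sub_self]
    have h3 : y = (y - c * x) + c * x := by ring
    rw [h3]
    exact L.add_mem (hL1.le h1) (L.mul_mem_left _ hxL)

variable [Algebra R κ] [IsScalarTower R C κ]

/-- Lifting along the square-zero ideal `J`, a vector space over a residue field `κ` of `C`, is possible if it is
possible modulo every hyperplane. -/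
theorem exists_lift (hκ : Function.Surjective (algebraMap C κ)) (hJκ : ∀ x ∈ J, algebraMap C κ x = 0)
    (hJ2 : J ^ 2 = ⊥) (ψ : S →ₐ[R] C ⧸ J) (hψ : Function.Surjective ψ)
    (H : ∀ (K : Ideal C) (hK : K ≤ J), K ⋖ J →
      ∃ v : S →ₐ[R] C ⧸ K, (Ideal.Quotient.factorₐ R hK).comp v = ψ) :
    ∃ χ : S →ₐ[R] C, (Ideal.Quotient.mkₐ R J).comp χ = ψ := by
  let P := MvPolynomial S R
  let π : P →ₐ[R] S := MvPolynomial.aeval id
  have hπ : Function.Surjective π := fun s => ⟨MvPolynomial.X s, MvPolynomial.aeval_X id s⟩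
  choose c hc using fun s : S => Ideal.Quotient.mk_surjective (ψ s)
  let φ : P →ₐ[R] C := MvPolynomial.aeval c
  have hφψ : (Ideal.Quotient.mkₐ R J).comp φ = ψ.comp π := by
    apply MvPolynomial.algHom_ext
    intro s
    simp only [AlgHom.comp_apply, φ, π, MvPolynomial.aeval_X, Ideal.Quotient.mkₐ_eq_mk, id]
    exact hc s
  letI algPC : Algebra P C := φ.toRingHom.toAlgebra
  have hPC : ∀ p : P, algebraMap P C p = φ p := fun p => rfl
  haveI towRPC : IsScalarTower R P C := IsScalarTower.of_algebraMap_eq fun r => by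
    rw [hPC]; exact (φ.commutes r).symm
  letI algPκ : Algebra P κ := ((algebraMap C κ).comp (algebraMap P C)).toAlgebra
  haveI towPCκ : IsScalarTower P C κ := IsScalarTower.of_algebraMap_eq fun p => rfl
  haveI towRPκ : IsScalarTower R P κ := IsScalarTower.of_algebraMap_eq fun r => by
    rw [IsScalarTower.algebraMap_apply P C κ, ← IsScalarTower.algebraMap_apply R P C,
      ← IsScalarTower.algebraMap_apply R C κ]
  haveI towPκJ : IsScalarTower P κ J := ⟨fun p k x => by
    have h1 : p • k = (algebraMap P C p) • k := (algebraMap_smul C p k).symm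
    have h2 : p • (k • x) = (algebraMap P C p) • (k • x) := (algebraMap_smul C p (k • x)).symm
    rw [h1, h2, smul_assoc]⟩
  have hsPκ : Function.Surjective (algebraMap P κ) := by
    intro k
    obtain ⟨a, rfl⟩ := hκ k
    obtain ⟨s, hs⟩ := hψ (Ideal.Quotient.mk J a)
    refine ⟨MvPolynomial.X s, ?_⟩
    rw [IsScalarTower.algebraMap_apply P C κ, hPC]
    have h1 : φ (MvPolynomial.X s) - a ∈ J := by
      have h3 : φ (MvPolynomial.X s) = c s := MvPolynomial.aeval_X c s
      rw [← Ideal.Quotient.eq, h3, hc, hs]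
    have h2 := hJκ _ h1
    rwa [map_sub, sub_eq_zero] at h2
  -- the gradient
  let gr : Derivation R P (S →₀ κ) := MvPolynomial.mkDerivation R (fun s => Finsupp.single s (1 : κ))
  have hgr : ∀ (ℓ : (S →₀ κ) →ₗ[κ] J) (p : P),
      MvPolynomial.mkDerivation R (fun s => ℓ (Finsupp.single s 1)) p = ℓ (gr p) := by
    intro ℓ p
    have h1 : MvPolynomial.mkDerivation R (fun s => ℓ (Finsupp.single s 1)) =
        (ℓ.restrictScalars P).compDer gr := by
      apply MvPolynomial.derivation_ext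
      intro s
      rw [MvPolynomial.mkDerivation_X]
      change _ = ℓ (gr (MvPolynomial.X s))
      rw [MvPolynomial.mkDerivation_X]
    rw [h1]
    rfl
  let I : Ideal P := RingHom.ker (π : P →+* S)
  have hI : ∀ y : P, y ∈ I → φ y ∈ J := by
    intro y hy
    have h1 := DFunLike.congr_fun hφψ y
    rw [AlgHom.comp_apply, AlgHom.comp_apply] at h1
    have h2 : π y = 0 := hy
    rw [h2, map_zero] at h1
    exact Ideal.Quotient.eq_zero_iff_mem.mp h1
  -- the main claim
  have key : ∀ y : P, ∀ hy : y ∈ I, gr y = 0 → φ y = 0 := by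
    intro y hy hgy
    by_contra hne
    have hne' : (⟨φ y, hI y hy⟩ : J) ≠ 0 := fun h => hne (congrArg Subtype.val h)
    obtain ⟨l, hl⟩ := Module.Projective.exists_dual_ne_zero κ hne'
    have hl0 : l ≠ 0 := by rintro rfl; exact hl rfl
    obtain ⟨v, hv⟩ := H (kerIdeal J l) (kerIdeal_le l) (kerIdeal_covBy hκ l hl0)
    let K := kerIdeal J l
    have hKJ : K ≤ J := kerIdeal_le l
    -- the difference of the two lifts is a derivation
    let JK : Ideal (C ⧸ K) := J.map (Ideal.Quotient.mk K)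
    have hmemJK : ∀ x : C ⧸ K, x ∈ JK ↔ Ideal.Quotient.factor hKJ x = 0 := by
      intro x
      obtain ⟨x, rfl⟩ := Ideal.Quotient.mk_surjective x
      rw [Ideal.Quotient.factor_mk, Ideal.Quotient.eq_zero_iff_mem]
      constructor
      · intro hx
        rw [Ideal.mem_map_iff_of_surjective _ Ideal.Quotient.mk_surjective] at hx
        obtain ⟨z, hz, hzx⟩ := hx
        rw [Ideal.Quotient.eq] at hzx
        have := J.sub_mem hz (hKJ hzx)
        simpa using this
      · intro hx; exact Ideal.mem_map_of_mem _ hx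
    have hJK2 : JK ^ 2 = ⊥ := by
      rw [← Ideal.map_pow, hJ2, Ideal.map_bot]
    have hdiff : ∀ p : P, v (π p) - Ideal.Quotient.mk K (φ p) ∈ JK := by
      intro p
      rw [hmemJK, map_sub, sub_eq_zero]
      have h1 := DFunLike.congr_fun hv (π p)
      have h2 := DFunLike.congr_fun hφψ p
      exact h1.trans h2.symm
    have he : (Ideal.Quotient.mkₐ R JK).comp (v.comp π) = IsScalarTower.toAlgHom R P ((C ⧸ K) ⧸ JK) := by
      ext s
      have := hdiff (MvPolynomial.X s)
      rw [← Ideal.Quotient.eq] at this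
      exact this
    let D : Derivation R P JK := derivationToSquareZeroOfLift JK hJK2 (v.comp π) he
    have hD : ∀ p : P, (D p : C ⧸ K) = v (π p) - Ideal.Quotient.mk K (φ p) := fun p => rfl
    -- lift to a derivation with values in `J`
    have hlift : ∀ x : C ⧸ K, x ∈ JK → ∃ z : J, Ideal.Quotient.mk K (z : C) = x := by
      intro x hx
      rw [Ideal.mem_map_iff_of_surjective _ Ideal.Quotient.mk_surjective] at hx
      obtain ⟨z, hz, hzx⟩ := hx
      exact ⟨⟨z, hz⟩, hzx⟩
    choose j hj using fun s : S => hlift _ (D (MvPolynomial.X s)).2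
    let ℓ : (S →₀ κ) →ₗ[κ] J := Finsupp.linearCombination κ j
    have hℓ : ∀ s, ℓ (Finsupp.single s 1) = j s := fun s => by
      simp [ℓ, Finsupp.linearCombination_single]
    let q : J →ₗ[P] JK :=
      { toFun := fun x => ⟨Ideal.Quotient.mk K (x : C), Ideal.mem_map_of_mem _ x.2⟩
        map_add' := fun x y => rfl
        map_smul' := fun p x => rfl }
    have hDq : D = q.compDer (MvPolynomial.mkDerivation R (fun s => ℓ (Finsupp.single s 1))) := by
      apply MvPolynomial.derivation_ext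
      intro s
      change _ = q (MvPolynomial.mkDerivation R (fun s => ℓ (Finsupp.single s 1)) (MvPolynomial.X s))
      rw [MvPolynomial.mkDerivation_X, hℓ]
      exact Subtype.ext (hj s).symm
    have hDy : D y = 0 := by
      rw [hDq]
      change q (MvPolynomial.mkDerivation R (fun s => ℓ (Finsupp.single s 1)) y) = 0
      rw [hgr, hgy, map_zero, map_zero]
    have h5 := hD y
    have hπy : π y = 0 := hy
    rw [hDy, hπy, map_zero, zero_sub, Submodule.coe_zero, eq_comm, neg_eq_zero,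
      Ideal.Quotient.eq_zero_iff_mem] at h5
    obtain ⟨h6, h7⟩ := (mem_kerIdeal l _).mp h5
    exact hl h7
  -- solve the linear system
  let Γ : I →ₗ[P] (S →₀ κ) :=
    { toFun := fun y => gr y
      map_add' := fun x y => map_add gr (x : P) (y : P)
      map_smul' := fun p y => by
        change gr (p * (y : P)) = p • gr (y : P)
        rw [Derivation.leibniz]
        have h1 : (y : P) • gr p = 0 := by
          rw [← algebraMap_smul κ (y : P) (gr p), IsScalarTower.algebraMap_apply P C κ, hPC,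
            hJκ _ (hI _ y.2), zero_smul]
        rw [h1, add_zero] }
  let Φ : I →ₗ[P] J :=
    { toFun := fun y => -⟨φ y, hI _ y.2⟩
      map_add' := fun x y => by
        apply Subtype.ext
        change -(φ ((x : P) + y)) = -φ x + -φ y
        rw [map_add]; ring
      map_smul' := fun p y => by
        apply Subtype.ext
        change -(φ (p * y)) = φ p * (-φ y)
        rw [map_mul]; ring }
  obtain ⟨ℓ, hℓ⟩ := exists_comp_eq' (κ := κ) hsPκ Γ Φ (by
    intro y hy
    have h1 : φ (y : P) = 0 := key y y.2 hy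
    apply Subtype.ext
    change -φ (y : P) = 0
    rw [h1, neg_zero])
  let D : Derivation R P J := MvPolynomial.mkDerivation R (fun s => ℓ (Finsupp.single s 1))
  let χ' : P →ₐ[R] C := liftOfDerivationToSquareZero J hJ2 D
  have hχ' : ∀ p, χ' p = D p + φ p := fun p => rfl
  have hχI : ∀ y ∈ I, χ' y = 0 := by
    intro y hy
    rw [hχ', hgr ℓ y]
    have h1 : ℓ (gr y) = -⟨φ y, hI _ hy⟩ := hℓ ⟨y, hy⟩
    rw [h1]
    change -φ y + φ y = 0
    ring
  let e : (P ⧸ I) ≃ₐ[R] S := Ideal.quotientKerAlgEquivOfSurjective hπ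
  let χ'' : P ⧸ I →ₐ[R] C := Ideal.Quotient.liftₐ I χ' hχI
  refine ⟨χ''.comp (e.symm : S →ₐ[R] P ⧸ I), ?_⟩
  ext s
  obtain ⟨p, rfl⟩ := hπ s
  have h1 : e.symm (π p) = Ideal.Quotient.mk I p := by
    rw [AlgEquiv.symm_apply_eq]; rfl
  change Ideal.Quotient.mk J (χ'' (e.symm (π p))) = ψ (π p)
  rw [h1]
  change Ideal.Quotient.mk J (χ' p) = ψ (π p)
  rw [hχ', map_add, Ideal.Quotient.eq_zero_iff_mem.mpr (D p).2, zero_add]
  exact DFunLike.congr_fun hφψ p

end

end K72.AdicSmall
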