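import Groth.Agent.Ega41.LinIndex
import Mathlib.Algebra.Module.SnakeLemma

/-!
Additivity of the index (`dim coker - dim ker`) of linear maps in short exact sequences and
four-term exact sequences.
-/

set_option autoImplicit false

open Module Groth.Agent.Ega41.LinIndex

namespace K72.IndexSES

variable {R : Type*} [Field R]

section ses

variable {M₁ M₂ M₃ N₁ N₂ N₃ : Type*}
  [AddCommGroup M₁] [Module R M₁] [AddCommGroup M₂] [Module R M₂] [AddCommGroup M₃] [Module R M₃]
  [AddCommGroup N₁] [Module R N₁] [AddCommGroup N₂] [Module R N₂] [AddCommGroup N₃] [Module R N₃]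
  {i₁ : M₁ →ₗ[R] N₁} {i₂ : M₂ →ₗ[R] N₂} {i₃ : M₃ →ₗ[R] N₃}
  {f₁ : M₁ →ₗ[R] M₂} {f₂ : M₂ →ₗ[R] M₃} {g₁ : N₁ →ₗ[R] N₂} {g₂ : N₂ →ₗ[R] N₃}

/-- Additivity of the index in a map of short exact sequences. -/
theorem ses (hf : Function.Exact f₁ f₂) (hg : Function.Exact g₁ g₂)
    (h₁ : g₁.comp i₁ = i₂.comp f₁) (h₂ : g₂.comp i₂ = i₃.comp f₂)
    (hf₁ : Function.Injective f₁) (hf₂ : Function.Surjective f₂)
    (hg₁ : Function.Injective g₁) (hg₂ : Function.Surjective g₂)
    {n : ℤ} (hn : HasIndex i₂ n)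
    (hfin : Module.Finite R (LinearMap.ker i₃) ∨ Module.Finite R (N₁ ⧸ LinearMap.range i₁)) :
    ∃ a c, HasIndex i₁ a ∧ HasIndex i₃ c ∧ n = a + c := by
  obtain ⟨hn1, hn2, hn3⟩ := hn
  let α : LinearMap.ker i₁ →ₗ[R] LinearMap.ker i₂ := f₁.restrict (fun x hx => by
    rw [LinearMap.mem_ker] at hx ⊢
    rw [← LinearMap.comp_apply, ← h₁, LinearMap.comp_apply, hx, map_zero])
  let β : LinearMap.ker i₂ →ₗ[R] LinearMap.ker i₃ := f₂.restrict (fun x hx => by
    rw [LinearMap.mem_ker] at hx ⊢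
    rw [← LinearMap.comp_apply, ← h₂, LinearMap.comp_apply, hx, map_zero])
  let γ : (N₁ ⧸ LinearMap.range i₁) →ₗ[R] (N₂ ⧸ LinearMap.range i₂) :=
    Submodule.mapQ _ _ g₁ (by
      rintro _ ⟨v, rfl⟩
      exact ⟨f₁ v, by rw [← LinearMap.comp_apply, ← h₁, LinearMap.comp_apply]⟩)
  let ε : (N₂ ⧸ LinearMap.range i₂) →ₗ[R] (N₃ ⧸ LinearMap.range i₃) :=
    Submodule.mapQ _ _ g₂ (by
      rintro _ ⟨v, rfl⟩
      exact ⟨f₂ v, by rw [← LinearMap.comp_apply, ← h₂, LinearMap.comp_apply]⟩)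
  let δ : LinearMap.ker i₃ →ₗ[R] (N₁ ⧸ LinearMap.range i₁) :=
    SnakeLemma.δ' i₁ i₂ i₃ f₁ f₂ hf g₁ g₂ hg h₁ h₂ (LinearMap.ker i₃).subtype
      (LinearMap.exact_subtype_ker_map _) (LinearMap.range i₁).mkQ
      (LinearMap.exact_map_mkQ_range _) hf₂ hg₁
  have e0 : LinearMap.ker α = ⊥ := by
    rw [LinearMap.ker_eq_bot]
    intro x y hxy
    exact Subtype.ext (hf₁ (congrArg Subtype.val hxy))
  have e1 : LinearMap.range α = LinearMap.ker β := by
    ext ⟨y, hy⟩
    simp only [LinearMap.mem_range, LinearMap.mem_ker]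
    constructor
    · rintro ⟨⟨x, hx⟩, hxy⟩
      have hxy : f₁ x = y := congrArg Subtype.val hxy
      apply Subtype.ext
      change f₂ y = 0
      rw [← hxy, hf.apply_apply_eq_zero]
    · intro h
      have h : f₂ y = 0 := congrArg Subtype.val h
      obtain ⟨x, hx⟩ := (hf y).mp h
      refine ⟨⟨x, ?_⟩, Subtype.ext hx⟩
      rw [LinearMap.mem_ker]
      apply hg₁
      rw [map_zero, ← LinearMap.comp_apply, h₁, LinearMap.comp_apply, hx]
      exact hy
  have e2 : LinearMap.range β = LinearMap.ker δ := by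
    have := SnakeLemma.exact_δ'_right i₁ i₂ i₃ f₁ f₂ hf g₁ g₂ hg h₁ h₂ (LinearMap.ker i₂).subtype
      (LinearMap.exact_subtype_ker_map _) (LinearMap.ker i₃).subtype
      (LinearMap.exact_subtype_ker_map _) (LinearMap.range i₁).mkQ
      (LinearMap.exact_map_mkQ_range _) hf₂ hg₁ β rfl Subtype.val_injective
    exact this.linearMap_ker_eq.symm
  have e3 : LinearMap.range δ = LinearMap.ker γ := by
    have := SnakeLemma.exact_δ'_left i₁ i₂ i₃ f₁ f₂ hf g₁ g₂ hg h₁ h₂ (LinearMap.ker i₃).subtype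
      (LinearMap.exact_subtype_ker_map _) (LinearMap.range i₁).mkQ
      (LinearMap.exact_map_mkQ_range _) (LinearMap.range i₂).mkQ
      (LinearMap.exact_map_mkQ_range _) hf₂ hg₁ γ rfl (Submodule.mkQ_surjective _)
    exact this.linearMap_ker_eq.symm
  have e4 : LinearMap.range γ = LinearMap.ker ε := by
    ext y
    obtain ⟨y, rfl⟩ := Submodule.mkQ_surjective _ y
    simp only [LinearMap.mem_range, LinearMap.mem_ker]
    constructor
    · rintro ⟨x, hx⟩
      obtain ⟨x, rfl⟩ := Submodule.mkQ_surjective _ x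
      rw [← hx]
      change Submodule.Quotient.mk (g₂ (g₁ x)) = _
      rw [hg.apply_apply_eq_zero]; rfl
    · intro h
      have h : (Submodule.Quotient.mk (g₂ y) : N₃ ⧸ LinearMap.range i₃) = 0 := h
      rw [Submodule.Quotient.mk_eq_zero] at h
      obtain ⟨z, hz⟩ := h
      obtain ⟨w, rfl⟩ := hf₂ z
      have : g₂ (y - i₂ w) = 0 := by
        rw [map_sub, ← hz, sub_eq_zero, ← LinearMap.comp_apply, ← h₂, LinearMap.comp_apply]
      obtain ⟨u, hu⟩ := (hg _).mp this
      refine ⟨Submodule.Quotient.mk u, ?_⟩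
      change Submodule.Quotient.mk (g₁ u) = Submodule.Quotient.mk y
      rw [Submodule.Quotient.eq, hu]
      exact ⟨-w, by rw [map_neg]; abel⟩
  have e5 : LinearMap.range ε = ⊤ := by
    rw [LinearMap.range_eq_top]
    intro z
    obtain ⟨z, rfl⟩ := Submodule.mkQ_surjective _ z
    obtain ⟨y, rfl⟩ := hg₂ z
    exact ⟨Submodule.Quotient.mk y, rfl⟩
  have n1 : Module.Finite R (LinearMap.ker i₁) := by
    exact Module.Finite.of_injective α (LinearMap.ker_eq_bot.mp e0)
  have n6 : Module.Finite R (N₃ ⧸ LinearMap.range i₃) := by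
    exact Module.Finite.of_surjective ε (LinearMap.range_eq_top.mp e5)
  have n34 : Module.Finite R (LinearMap.ker i₃) ∧ Module.Finite R (N₁ ⧸ LinearMap.range i₁) := by
    rcases hfin with h | h
    · have := isNoetherian_of_range_eq_ker δ γ e3
      exact ⟨h, inferInstance⟩
    · have := isNoetherian_of_range_eq_ker β δ e2
      exact ⟨inferInstance, h⟩
  obtain ⟨n3, n4⟩ := n34
  refine ⟨_, _, ⟨n1, n4, rfl⟩, ⟨n3, n6, rfl⟩, ?_⟩
  have d0 : finrank R (LinearMap.ker i₁) = finrank R (LinearMap.range α) := by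
    rw [← LinearMap.finrank_range_add_finrank_ker α, e0]; simp
  have d1 := finrank_mid α β e1
  have d2 := finrank_mid β δ e2
  have d3 := finrank_mid δ γ e3
  have d4 := finrank_mid γ ε e4
  have d5 : finrank R (N₃ ⧸ LinearMap.range i₃) = finrank R (LinearMap.range ε) := by
    rw [e5]; simp
  omega

end ses

section four

variable {P A₀ A₁ Q P' B₀ B₁ Q' : Type*}
  [AddCommGroup P] [Module R P] [AddCommGroup A₀] [Module R A₀] [AddCommGroup A₁] [Module R A₁]
  [AddCommGroup Q] [Module R Q] [AddCommGroup P'] [Module R P'] [AddCommGroup B₀] [Module R B₀]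
  [AddCommGroup B₁] [Module R B₁] [AddCommGroup Q'] [Module R Q']
  {i : P →ₗ[R] A₀} {d : A₀ →ₗ[R] A₁} {p : A₁ →ₗ[R] Q}
  {i' : P' →ₗ[R] B₀} {e : B₀ →ₗ[R] B₁} {p' : B₁ →ₗ[R] Q'}
  {β : P →ₗ[R] P'} {u : A₀ →ₗ[R] B₀} {v : A₁ →ₗ[R] B₁} {α : Q →ₗ[R] Q'}

/-- Index of the maps induced on the outer terms of a map of four-term exact sequences. -/
theorem four (hi : Function.Injective i) (hid : Function.Exact i d) (hdp : Function.Exact d p)
    (hp : Function.Surjective p)
    (hi' : Function.Injective i') (hie : Function.Exact i' e) (hep : Function.Exact e p')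
    (hp' : Function.Surjective p')
    (h₁ : i' ∘ₗ β = u ∘ₗ i) (h₂ : e ∘ₗ u = v ∘ₗ d) (h₃ : p' ∘ₗ v = α ∘ₗ p)
    {m n : ℤ} (hu : HasIndex u m) (hv : HasIndex v n) :
    ∃ a c, HasIndex β a ∧ HasIndex α c ∧ n - m = c - a := by
  let w : LinearMap.range d →ₗ[R] LinearMap.range e := v.restrict (by
    rintro _ ⟨x, rfl⟩
    exact ⟨u x, by rw [← LinearMap.comp_apply, h₂, LinearMap.comp_apply]⟩)
  have hw : Module.Finite R (LinearMap.ker w) := by
    have := hv.1
    let φ : LinearMap.ker w →ₗ[R] LinearMap.ker v :=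
      ((LinearMap.range d).subtype ∘ₗ (LinearMap.ker w).subtype).codRestrict _ (by
        rintro ⟨x, hx⟩
        exact congrArg Subtype.val hx)
    refine Module.Finite.of_injective φ ?_
    intro x y hxy
    have h : (φ x).1 = (φ y).1 := congrArg Subtype.val hxy
    exact Subtype.ext (Subtype.ext h)
  obtain ⟨a, b, ha, hb, hm⟩ := ses (i₁ := β) (i₂ := u) (i₃ := w) (f₁ := i) (f₂ := d.rangeRestrict)
    (g₁ := i') (g₂ := e.rangeRestrict)
    (by
      intro x
      rw [← hid]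
      exact ⟨fun h => congrArg Subtype.val h, fun h => Subtype.ext h⟩)
    (by
      intro x
      rw [← hie]
      exact ⟨fun h => congrArg Subtype.val h, fun h => Subtype.ext h⟩)
    h₁ (by
      ext x
      exact LinearMap.congr_fun h₂ x) hi (LinearMap.surjective_rangeRestrict d) hi'
    (LinearMap.surjective_rangeRestrict e) hu (Or.inl hw)
  obtain ⟨b', c, hb', hc, hn⟩ := ses (i₁ := w) (i₂ := v) (i₃ := α)
    (f₁ := (LinearMap.range d).subtype) (f₂ := p)
    (g₁ := (LinearMap.range e).subtype) (g₂ := p')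
    (by
      rw [LinearMap.exact_iff, Submodule.range_subtype, hdp.linearMap_ker_eq])
    (by
      rw [LinearMap.exact_iff, Submodule.range_subtype, hep.linearMap_ker_eq])
    (by ext x; rfl) h₃ (Submodule.subtype_injective _) hp (Submodule.subtype_injective _) hp' hv
    (Or.inr hb.2.1)
  have : b = b' := hb.2.2.symm.trans hb'.2.2
  subst this
  exact ⟨a, c, ha, hc, by omega⟩

end four

end K72.IndexSES
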