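import Groth.Agent.CAlg.K72.H1Field
import Groth.Agent.CAlg.K72.IndexSES
import Groth.Agent.Ega41.Cartier2

/-!
Cartier's equality for a commutative square of fields.
-/

set_option autoImplicit false

open TensorProduct Algebra Module Groth.Agent.Ega41.LinIndex KaehlerDifferential

namespace K72.CartierSquare

universe u

variable {k k' K K' : Type u} [Field k] [Field k']
    [Field K] [Field K'] [Algebra k k'] [Algebra k K] [Algebra k K'] [Algebra k' K'] [Algebra K K']
    [IsScalarTower k k' K'] [IsScalarTower k K K']

theorem hasIndex_left [Algebra.EssFiniteType k k'] :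
    HasIndex ((DeltaNat.natMap ℤ k K ℤ k' K').liftBaseChange K')
      (Cardinal.toNat (Algebra.trdeg k k')) := by
  have h1 := (Groth.Agent.Ega41.Cartier2.cartier (K := k) (L := k')).2.baseChange K'
  have h2 := (hasIndex_equiv ((AlgebraTensorModule.cancelBaseChange k K K' K' (Ω[k⁄ℤ])).trans
    (AlgebraTensorModule.cancelBaseChange k k' K' K' (Ω[k⁄ℤ])).symm)).comp h1
  rw [zero_add] at h2
  convert h2 using 1
  ext x
  simp [DeltaNat.natMap]

theorem main [Algebra.EssFiniteType k k'] [Algebra.EssFiniteType K K'] :
    ∃ a c : ℤ, HasIndex ((H1Cotangent.map k k' K K').liftBaseChange K') a ∧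
      HasIndex ((KaehlerDifferential.map k k' K K').liftBaseChange K') c ∧
      (Cardinal.toNat (Algebra.trdeg K K') : ℤ) - Cardinal.toNat (Algebra.trdeg k k') = c - a := by
  have hu := hasIndex_left (k := k) (k' := k') (K := K) (K' := K')
  have hv := (Groth.Agent.Ega41.Cartier2.cartier (K := K) (L := K')).2
  refine IndexSES.four 
    (i := (H1Cotangent.δ ℤ k K).baseChange K')
    (d := (mapBaseChange ℤ k K).baseChange K') 
    (p := (KaehlerDifferential.map ℤ k K K).baseChange K')
    (i' := H1Cotangent.δ ℤ k' K') 
    (e := mapBaseChange ℤ k' K')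
    (p' := KaehlerDifferential.map ℤ k' K' K') ?_ ?_ ?_ ?_ ?_ ?_ ?_ ?_ ?_ ?_ ?_ hu hv
  · exact Module.Flat.lTensor_preserves_injective_linearMap _ (H1Field.δ_int_injective k K)
  · exact Module.Flat.lTensor_exact K' (H1Cotangent.exact_δ_mapBaseChange ℤ k K)
  · exact lTensor_exact K' (KaehlerDifferential.exact_mapBaseChange_map ℤ k K)
      (KaehlerDifferential.map_surjective ℤ k K)
  · exact LinearMap.lTensor_surjective _ (KaehlerDifferential.map_surjective ℤ k K)
  · exact H1Field.δ_int_injective k' K'
  · exact H1Cotangent.exact_δ_mapBaseChange ℤ k' K'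
  · exact KaehlerDifferential.exact_mapBaseChange_map ℤ k' K'
  · exact KaehlerDifferential.map_surjective ℤ k' K'
  · apply LinearMap.restrictScalars_injective K
    apply TensorProduct.ext'
    intro m x
    simp only [LinearMap.coe_restrictScalars, LinearMap.comp_apply, LinearMap.baseChange_tmul,
      LinearMap.liftBaseChange_tmul, map_smul]
    rw [DeltaNat.δ_map ℤ k K ℤ k' K']
  · ext x
    simp [DeltaNat.natMap, ← IsScalarTower.algebraMap_apply]
  · ext x
    simp

end K72.CartierSquare
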