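import Mathlib

/-!
Naturality of the connecting homomorphism `Algebra.H1Cotangent.δ` of the Jacobi–Zariski sequence with
respect to maps of towers `(R → S → T) → (R' → S' → T')`.
-/

set_option autoImplicit false

open TensorProduct Algebra MvPolynomial

namespace K72.DeltaNat

universe u₁ u₂ u₃ v₁ v₂ v₃

variable (R : Type u₁) (S : Type u₂) (T : Type u₃) [CommRing R] [CommRing S] [CommRing T]
  [Algebra R S] [Algebra S T] [Algebra R T] [IsScalarTower R S T]
  (R' : Type v₁) (S' : Type v₂) (T' : Type v₃) [CommRing R'] [CommRing S'] [CommRing T']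
  [Algebra R' S'] [Algebra S' T'] [Algebra R' T'] [IsScalarTower R' S' T']
  [Algebra R R'] [Algebra S S'] [Algebra T T']
  [Algebra R S'] [IsScalarTower R R' S'] [IsScalarTower R S S']
  [Algebra S T'] [IsScalarTower S S' T'] [IsScalarTower S T T']

/-- The comparison map `T ⊗[S] Ω[S⁄R] → T' ⊗[S'] Ω[S'⁄R']`. -/
noncomputable def natMap : T ⊗[S] Ω[S⁄R] →ₗ[T] T' ⊗[S'] Ω[S'⁄R'] :=
  LinearMap.liftBaseChange T
    ((TensorProduct.mk S' T' (Ω[S'⁄R']) 1).restrictScalars S ∘ₗ KaehlerDifferential.map R R' S S')

omit [Algebra R T] [IsScalarTower R S T] [Algebra R' T'] [IsScalarTower R' S' T'] in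
theorem natMap_tmul (t : T) (s : S) :
    natMap R S T R' S' T' (t ⊗ₜ KaehlerDifferential.D R S s) =
      (algebraMap T T' t) ⊗ₜ KaehlerDifferential.D R' S' (algebraMap S S' s) := by
  simp [natMap, TensorProduct.smul_tmul', Algebra.smul_def]

theorem δAux_defaultHom (p : (Generators.self S T).Ring) :
    Generators.H1Cotangent.δAux R' (Generators.self S' T')
      ((Generators.defaultHom (Generators.self S T) (Generators.self S' T')).toAlgHom p) =
    natMap R S T R' S' T' (Generators.H1Cotangent.δAux R (Generators.self S T) p) := by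
  induction p using MvPolynomial.induction_on with
  | C s =>
    rw [Generators.Hom.toAlgHom_C, Generators.H1Cotangent.δAux_C, Generators.H1Cotangent.δAux_C,
      natMap_tmul, map_one]
  | add p q hp hq => rw [map_add, map_add, map_add, hp, hq, map_add]
  | mul_X p n ih =>
    have h1 : (Generators.defaultHom (Generators.self S T) (Generators.self S' T')).toAlgHom
        (X n : MvPolynomial T S) = (X (algebraMap T T' n) : MvPolynomial T' S') := by
      rw [Generators.Hom.toAlgHom_X]; rfl
    rw [map_mul, Generators.H1Cotangent.δAux_mul, Generators.H1Cotangent.δAux_mul, ih, h1,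
      Generators.H1Cotangent.δAux_X, Generators.H1Cotangent.δAux_X, smul_zero, smul_zero, zero_add,
      zero_add]
    rw [← @IsScalarTower.algebraMap_smul (Generators.self S' T').Ring T',
      ← @IsScalarTower.algebraMap_smul (Generators.self S T).Ring T, map_smul]
    rw [Generators.algebraMap_apply, Generators.algebraMap_apply, aeval_X, aeval_X]
    exact IsScalarTower.algebraMap_smul T' n _

set_option backward.isDefEq.respectTransparency false in
/-- Naturality of the connecting map in the Jacobi–Zariski sequence. -/
theorem δ_map (x : H1Cotangent S T) :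
    H1Cotangent.δ R' S' T' (H1Cotangent.map S S' T T' x) =
      natMap R S T R' S' T' (H1Cotangent.δ R S T x) := by
  obtain ⟨x, hx⟩ := x
  obtain ⟨⟨y, hy⟩, rfl⟩ := Extension.Cotangent.mk_surjective x
  change Generators.H1Cotangent.δ (Generators.self S' T') (Generators.self R' S') ⟨_, _⟩ =
    natMap R S T R' S' T' (Generators.H1Cotangent.δ (Generators.self S T) (Generators.self R S) ⟨_, _⟩)
  rw [Generators.H1Cotangent.δ_eq_δAux, ← δAux_defaultHom]
  simp only [LinearMap.domRestrict_apply, Extension.Cotangent.map_mk]
  rw [Generators.H1Cotangent.δ_eq_δAux]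
  rfl

end K72.DeltaNat
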