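import Groth.Agent.CAlg.K72.DeltaNat
import Groth.Agent.CalgA.H1Union

/-!
First homology of the naive cotangent complex for field extensions: over a perfect field it
vanishes, so `δ F K L : H₁(L/K) → L ⊗[K] Ω[K⁄F]` is injective for `F` perfect, and
`M ⊗[L] H₁(L/K) → H₁(M/K)` is injective for fields `K ⊆ L ⊆ M`.
-/

set_option autoImplicit false

open TensorProduct Algebra

namespace K72.H1Field

universe w u₁ u₂ u₃

theorem exists_perfectField (K : Type u₁) [Field K] :
    ∃ (F : Type) (_ : Field F) (_ : PerfectField F), Nonempty (F →+* K) := by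
  obtain ⟨p, hp⟩ := CharP.exists K
  rcases CharP.char_is_prime_or_zero K p with hpp | rfl
  · have : Fact p.Prime := ⟨hpp⟩
    exact ⟨ZMod p, inferInstance, inferInstance, ⟨ZMod.castHom dvd_rfl K⟩⟩
  · have : CharZero K := CharP.charP_to_charZero K
    exact ⟨ℚ, inferInstance, inferInstance, ⟨algebraMap ℚ K⟩⟩

theorem subsingleton_of_perfectField (F : Type w) (L : Type u₁) [Field F] [Field L] [Algebra F L]
    [PerfectField F] : Subsingleton (H1Cotangent F L) := by
  have := Groth.Agent.CalgA.H1Union.formallySmooth_of_perfectField F L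
  infer_instance

theorem δ_injective_of_perfectField (F : Type w) (K : Type u₁) (L : Type u₂) [Field F]
    [PerfectField F] [Field K] [Field L]
    [Algebra F K] [Algebra K L] [Algebra F L] [IsScalarTower F K L] :
    Function.Injective (H1Cotangent.δ F K L) := by
  rw [injective_iff_map_eq_zero]
  intro x hx
  obtain ⟨y, rfl⟩ := (H1Cotangent.exact_map_δ F K L x).mp hx
  have := subsingleton_of_perfectField F L
  rw [Subsingleton.elim y 0, map_zero]

/-- `δ ℤ K L : H₁(L/K) → L ⊗[K] Ω[K⁄ℤ]` is injective for any field extension `L/K`. -/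
theorem δ_int_injective (K : Type u₁) (L : Type u₂) [Field K] [Field L] [Algebra K L] :
    Function.Injective (H1Cotangent.δ ℤ K L) := by
  obtain ⟨F, _, _, ⟨f⟩⟩ := exists_perfectField K
  let : Algebra F K := f.toAlgebra
  let : Algebra F L := ((algebraMap K L).comp f).toAlgebra
  have : IsScalarTower F K L := IsScalarTower.of_algebraMap_eq' rfl
  have h : ∀ x, H1Cotangent.δ F K L x = DeltaNat.natMap ℤ K L F K L (H1Cotangent.δ ℤ K L x) := by
    intro x
    rw [← DeltaNat.δ_map ℤ K L F K L]
    congr 1
    change x = Extension.H1Cotangent.map _ x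
    rw [Extension.H1Cotangent.map_eq _ (.id _), Extension.H1Cotangent.map_id]
    rfl
  intro x y hxy
  apply δ_injective_of_perfectField F K L
  rw [h, h, hxy]

/-- `M ⊗[L] H₁(L/K) → H₁(M/K)` is injective for fields `K ⊆ L ⊆ M`. -/
theorem liftBaseChange_map_injective (K : Type u₁) (L : Type u₂) (M : Type u₃)
    [Field K] [Field L] [Field M] [Algebra K L]
    [Algebra L M] [Algebra K M] [IsScalarTower K L M] :
    Function.Injective ((H1Cotangent.map K K L M).liftBaseChange M) := by
  have h1 : Function.Injective ((H1Cotangent.δ ℤ K L).baseChange M) :=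
    Module.Flat.lTensor_preserves_injective_linearMap _ (δ_int_injective K L)
  have h2 : (AlgebraTensorModule.cancelBaseChange K L M M (Ω[K⁄ℤ])).toLinearMap =
      (DeltaNat.natMap ℤ K L ℤ K M).liftBaseChange M := by
    ext x
    simp [DeltaNat.natMap]
  have h3 : (DeltaNat.natMap ℤ K L ℤ K M).liftBaseChange M ∘ₗ (H1Cotangent.δ ℤ K L).baseChange M =
      H1Cotangent.δ ℤ K M ∘ₗ (H1Cotangent.map K K L M).liftBaseChange M := by
    apply LinearMap.restrictScalars_injective L
    apply TensorProduct.ext'
    intro m x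
    simp only [LinearMap.coe_restrictScalars, LinearMap.comp_apply, LinearMap.baseChange_tmul,
      LinearMap.liftBaseChange_tmul, map_smul]
    rw [DeltaNat.δ_map ℤ K L ℤ K M]
  have h4 : Function.Injective
      (H1Cotangent.δ ℤ K M ∘ₗ (H1Cotangent.map K K L M).liftBaseChange M) := by
    rw [← h3, ← h2, LinearMap.coe_comp]
    exact (LinearEquiv.injective (AlgebraTensorModule.cancelBaseChange K L M M (Ω[K⁄ℤ]))).comp h1
  rw [LinearMap.coe_comp] at h4
  exact Function.Injective.of_comp h4

end K72.H1Field
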