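import Groth.Prelude.Def_CAlgX
import Mathlib.RingTheory.Localization.Away.Basic
import Mathlib.RingTheory.Ideal.Operations

/-!
# `I ∩ J² = I J` when `J/I` is `H₁`-regular (helper72)
-/

set_option autoImplicit false
universe u

open CAlgX

namespace K72.H1Inf

section

variable {A B : Type u} [CommRing A] [CommRing B] (I J : Ideal A) (π : A →+* B) (g : A)

/-- The trivial relations between the elements of a finite family. -/
def kos {c : ℕ} (α : Fin c → A) : Submodule A (Fin c → A) :=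
  Submodule.span A {v : Fin c → A | ∃ i j : Fin c, v = Pi.single i (α j) - Pi.single j (α i)}

theorem sum_mul_kos {c : ℕ} (α : Fin c → A) (w : Fin c → A) (hw : w ∈ kos α) : ∑ i, w i * α i = 0 := by
  induction hw using Submodule.span_induction with
  | mem x hx =>
    obtain ⟨i, j, rfl⟩ := hx
    simp only [Pi.sub_apply, sub_mul, Finset.sum_sub_distrib]
    rw [Finset.sum_eq_single i, Finset.sum_eq_single j]
    · simp only [Pi.single_eq_same]; ring
    · intro k _ hk; rw [Pi.single_eq_of_ne hk, zero_mul]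
    · intro h; exact absurd (Finset.mem_univ _) h
    · intro k _ hk; rw [Pi.single_eq_of_ne hk, zero_mul]
    · intro h; exact absurd (Finset.mem_univ _) h
  | zero => simp
  | add x y _ _ hx hy =>
    simp only [Pi.add_apply, add_mul, Finset.sum_add_distrib]
    rw [hx, hy, add_zero]
  | smul a x _ hx =>
    simp only [Pi.smul_apply, smul_eq_mul, mul_assoc, ← Finset.mul_sum]
    rw [hx, mul_zero]

/-- `π : A → B` behaves like `A → (A/I)_g`. -/
structure Loc : Prop where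
  ker : ∀ x, π x = 0 → ∃ n : ℕ, g ^ n * x ∈ I
  surj : ∀ b : B, ∃ (n : ℕ) (a : A), π g ^ n * b = π a
  le : ∀ x ∈ I, π x = 0
  unit : IsUnit (π g)

variable {I J π g}

theorem Loc.kos_lift (h : Loc I π g) {c : ℕ} (f : Fin c → B) (α : Fin c → A) (k : ℕ)
    (hα : ∀ i, π (α i) = π g ^ k * f i) (v : Fin c → B)
    (hv : v ∈ Submodule.span B {v : Fin c → B | ∃ i j : Fin c, v = Pi.single i (f j) - Pi.single j (f i)}) :
    ∃ (N : ℕ) (w : Fin c → A), w ∈ kos α ∧ ∀ i, π (w i) = π g ^ N * v i := by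
  induction hv using Submodule.span_induction with
  | mem x hx =>
    obtain ⟨i, j, rfl⟩ := hx
    refine ⟨k, Pi.single i (α j) - Pi.single j (α i), Submodule.subset_span ⟨i, j, rfl⟩, fun l => ?_⟩
    simp only [Pi.sub_apply, map_sub, mul_sub]
    congr 1
    · by_cases hl : l = i
      · subst hl; simp [hα]
      · simp [Pi.single_eq_of_ne hl]
    · by_cases hl : l = j
      · subst hl; simp [hα]
      · simp [Pi.single_eq_of_ne hl]
  | zero => exact ⟨0, 0, Submodule.zero_mem _, fun i => by simp⟩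
  | add x y _ _ hx hy =>
    obtain ⟨N, w, hw, hwx⟩ := hx
    obtain ⟨N', w', hw', hwy⟩ := hy
    refine ⟨N + N', g ^ N' • w + g ^ N • w', Submodule.add_mem _ (Submodule.smul_mem _ _ hw)
      (Submodule.smul_mem _ _ hw'), fun i => ?_⟩
    simp only [Pi.add_apply, Pi.smul_apply, smul_eq_mul, map_add, map_mul, map_pow, hwx, hwy]
    ring
  | smul b x _ hx =>
    obtain ⟨N, w, hw, hwx⟩ := hx
    obtain ⟨n, a, ha⟩ := h.surj b
    refine ⟨n + N, a • w, Submodule.smul_mem _ _ hw, fun i => ?_⟩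
    simp only [Pi.smul_apply, smul_eq_mul, map_mul, hwx, ← ha]
    ring

theorem Loc.main (h : Loc I π g) (hIJ : I ≤ J) {c : ℕ} (f : Fin c → B) (hf : IsH1Regular f)
    (hspan : Ideal.span (Set.range f) = J.map π) {x : A} (hxI : x ∈ I) (hxJ : x ∈ J ^ 2) :
    ∃ n : ℕ, g ^ n * x ∈ I * J := by
  -- lifts of the generators, in `J`
  have hlift : ∀ i, ∃ (k : ℕ) (a : A), a ∈ J ∧ π a = π g ^ k * f i := by
    intro i
    have h1 : f i ∈ J.map π := hspan ▸ Ideal.subset_span ⟨i, rfl⟩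
    have h2 : ∀ b ∈ J.map π, ∃ (k : ℕ) (a : A), a ∈ J ∧ π a = π g ^ k * b := by
      intro b hb
      rw [Ideal.map] at hb
      induction hb using Submodule.span_induction with
      | mem x hx => obtain ⟨a, ha, rfl⟩ := hx; exact ⟨0, a, ha, by simp⟩
      | zero => exact ⟨0, 0, J.zero_mem, by simp⟩
      | add x y _ _ hx hy =>
        obtain ⟨N, w, hw, hwx⟩ := hx
        obtain ⟨N', w', hw', hwy⟩ := hy
        refine ⟨N + N', g ^ N' * w + g ^ N * w', J.add_mem (J.mul_mem_left _ hw) (J.mul_mem_left _ hw'), ?_⟩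
        simp only [map_add, map_mul, map_pow, hwx, hwy]
        ring
      | smul b x _ hx =>
        obtain ⟨N, w, hw, hwx⟩ := hx
        obtain ⟨n, a, ha⟩ := h.surj b
        refine ⟨n + N, a * w, J.mul_mem_left _ hw, ?_⟩
        simp only [smul_eq_mul, map_mul, hwx, ← ha]
        ring
    exact h2 _ h1
  choose k₀ a₀ ha₀ hπ₀ using hlift
  obtain ⟨k, hk⟩ : ∃ k : ℕ, ∀ i, k₀ i ≤ k := ⟨Finset.univ.sup k₀, fun i => Finset.le_sup (Finset.mem_univ i)⟩
  let α : Fin c → A := fun i => g ^ (k - k₀ i) * a₀ i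
  have hαJ : ∀ i, α i ∈ J := fun i => J.mul_mem_left _ (ha₀ i)
  have hα : ∀ i, π (α i) = π g ^ k * f i := by
    intro i
    have : k = (k - k₀ i) + k₀ i := (Nat.sub_add_cancel (hk i)).symm
    simp only [α, map_mul, map_pow, hπ₀]
    conv_rhs => rw [this, pow_add]
    ring
  let 𝔞 : Ideal A := Ideal.span (Set.range α)
  have h𝔞J : 𝔞 ≤ J := Ideal.span_le.mpr (by rintro _ ⟨i, rfl⟩; exact hαJ i)
  -- elements of `J`
  have hJ : ∀ y ∈ J, ∃ n : ℕ, g ^ n * y ∈ 𝔞 ⊔ I := by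
    intro y hy
    have h1 : π y ∈ Ideal.span (Set.range f) := hspan ▸ Ideal.mem_map_of_mem π hy
    have h2 : ∀ b ∈ Ideal.span (Set.range f), ∃ (n : ℕ) (a : A), a ∈ 𝔞 ∧ π a = π g ^ n * b := by
      intro b hb
      rw [Ideal.span] at hb
      induction hb using Submodule.span_induction with
      | mem x hx => obtain ⟨i, rfl⟩ := hx; exact ⟨k, α i, Ideal.subset_span ⟨i, rfl⟩, hα i⟩
      | zero => exact ⟨0, 0, Ideal.zero_mem _, by simp⟩
      | add x y _ _ hx hy =>
        obtain ⟨N, w, hw, hwx⟩ := hx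
        obtain ⟨N', w', hw', hwy⟩ := hy
        refine ⟨N + N', g ^ N' * w + g ^ N * w', Ideal.add_mem _ (Ideal.mul_mem_left _ _ hw)
          (Ideal.mul_mem_left _ _ hw'), ?_⟩
        simp only [map_add, map_mul, map_pow, hwx, hwy]
        ring
      | smul b x _ hx =>
        obtain ⟨N, w, hw, hwx⟩ := hx
        obtain ⟨n, a, ha⟩ := h.surj b
        refine ⟨n + N, a * w, Ideal.mul_mem_left _ _ hw, ?_⟩
        simp only [smul_eq_mul, map_mul, hwx, ← ha]
        ring
    obtain ⟨n, a, ha, hπ⟩ := h2 _ h1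
    have h3 : π (g ^ n * y - a) = 0 := by rw [map_sub, hπ, map_mul, map_pow, sub_self]
    obtain ⟨m, hm⟩ := h.ker _ h3
    refine ⟨m + n, ?_⟩
    have h4 : g ^ (m + n) * y = g ^ m * a + g ^ m * (g ^ n * y - a) := by rw [pow_add]; ring
    rw [h4]
    exact Submodule.add_mem_sup (Ideal.mul_mem_left _ _ ha) hm
  have hprod : (𝔞 ⊔ I) * (𝔞 ⊔ I) ≤ 𝔞 * 𝔞 ⊔ I * J := by
    rw [Ideal.sup_mul, Ideal.mul_sup, Ideal.mul_sup]
    refine sup_le (sup_le le_sup_left ?_) (sup_le ?_ ?_)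
    · rw [mul_comm]; exact le_trans (Ideal.mul_mono_right h𝔞J) le_sup_right
    · exact le_trans (Ideal.mul_mono_right h𝔞J) le_sup_right
    · exact le_trans (Ideal.mul_mono_right hIJ) le_sup_right
  have hJ2 : ∃ n : ℕ, g ^ n * x ∈ 𝔞 * 𝔞 ⊔ I * J := by
    rw [pow_two] at hxJ
    refine Submodule.mul_induction_on hxJ ?_ ?_
    · intro y hy z hz
      obtain ⟨n, hn⟩ := hJ y hy
      obtain ⟨m, hm⟩ := hJ z hz
      refine ⟨n + m, hprod ?_⟩
      have : g ^ (n + m) * (y * z) = (g ^ n * y) * (g ^ m * z) := by rw [pow_add]; ring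
      rw [this]
      exact Ideal.mul_mem_mul hn hm
    · rintro y z ⟨n, hn⟩ ⟨m, hm⟩
      refine ⟨n + m, ?_⟩
      have : g ^ (n + m) * (y + z) = g ^ m * (g ^ n * y) + g ^ n * (g ^ m * z) := by rw [pow_add]; ring
      rw [this]
      exact Ideal.add_mem _ (Ideal.mul_mem_left _ _ hn) (Ideal.mul_mem_left _ _ hm)
  obtain ⟨n, hn⟩ := hJ2
  obtain ⟨z, hz, y, hy, hzy⟩ := Submodule.mem_sup.mp hn
  -- `z = ∑ β i * α i` with `β i ∈ 𝔞`
  have hz' : z ∈ 𝔞 • Submodule.span A (Set.range α) := hz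
  rw [Submodule.mem_ideal_smul_span_iff_exists_sum] at hz'
  obtain ⟨β, hβ, hβz⟩ := hz'
  have hβz' : ∑ i, β i * α i = z := by
    rw [← hβz, Finsupp.sum_fintype]
    · rfl
    · intro i; rw [zero_smul]
  have hzI : z ∈ I := by
    have h1 : z = g ^ n * x - y := by rw [← hzy]; ring
    rw [h1]
    have h2 : y ∈ I := (Ideal.mul_le_left : I * J ≤ I) hy
    exact I.sub_mem (I.mul_mem_left _ hxI) h2
  have hrel : ∑ i, π (β i) * f i = 0 := by
    have h1 : π g ^ k * ∑ i, π (β i) * f i = 0 := by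
      rw [← h.le z hzI, ← hβz', map_sum, Finset.mul_sum]
      refine Finset.sum_congr rfl fun i _ => ?_
      rw [map_mul, hα]; ring
    exact ((h.unit.pow k).mul_right_eq_zero).mp h1
  obtain ⟨N, w, hw, hwπ⟩ := h.kos_lift f α k hα (fun i => π (β i)) (hf (fun i => π (β i)) hrel)
  have hγ : ∀ i, ∃ m : ℕ, g ^ m * (g ^ N * β i - w i) ∈ I := by
    intro i
    apply h.ker
    rw [map_sub, hwπ, map_mul, map_pow, sub_self]
  choose m₀ hm₀ using hγ
  obtain ⟨m, hm⟩ : ∃ m : ℕ, ∀ i, m₀ i ≤ m := ⟨Finset.univ.sup m₀, fun i => Finset.le_sup (Finset.mem_univ i)⟩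
  have hm' : ∀ i, g ^ m * (g ^ N * β i - w i) ∈ I := by
    intro i
    obtain ⟨r, hr⟩ := Nat.exists_eq_add_of_le (hm i)
    rw [hr, add_comm, pow_add, mul_assoc]
    exact I.mul_mem_left _ (hm₀ i)
  refine ⟨m + N + n, ?_⟩
  have h1 : g ^ (m + N + n) * x = ∑ i, (g ^ m * (g ^ N * β i - w i)) * α i + g ^ (m + N) * y := by
    have h2 : ∑ i, (g ^ m * (g ^ N * β i - w i)) * α i = g ^ (m + N) * z - g ^ m * ∑ i, w i * α i := by
      rw [← hβz', Finset.mul_sum, Finset.mul_sum, ← Finset.sum_sub_distrib]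
      refine Finset.sum_congr rfl fun i _ => ?_
      rw [pow_add]; ring
    rw [h2, sum_mul_kos α w hw, mul_zero, sub_zero, pow_add _ (m + N) n, mul_assoc, ← hzy]
    ring
  rw [h1]
  exact Ideal.add_mem _ (Ideal.sum_mem _ fun i _ => Ideal.mul_mem_mul (hm' i) (hαJ i))
    (Ideal.mul_mem_left _ _ hy)

end

end K72.H1Inf
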