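import Groth.Agent.CalgA.NagataExt
import Mathlib.RingTheory.Finiteness.Descent
import Mathlib.RingTheory.Flat.FaithfullyFlat.Algebra

/-!
# N-1 and Zariski coverings; N-1 and faithfully flat descent

Helper library for S9391-S9401 (helper72).
-/

set_option autoImplicit false
set_option linter.style.haveILetI false

universe u v w

open CAlg Groth.Agent.CalgA.NagataBasic Groth.Agent.CalgA.NagataExt
open scoped TensorProduct

namespace K72.NagLocal

/-- A domain is N-1 if it is so on a Zariski covering. -/
theorem isN1_of_span_eq_top {R : Type u} [CommRing R] [IsDomain R] (s : Set R) (hs : Ideal.span s = ⊤)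
    (h : ∀ (f : R) (_ : f ∈ s) (_ : f ≠ 0) (T : Type u) [CommRing T] [IsDomain T] [Algebra R T]
      [IsLocalization.Away f T], IsN1 T) : IsN1 R := by
  let K := FractionRing R
  rw [Groth.Agent.CalgA.NagataBasic.isN1_iff K]
  have hs' : Ideal.span (s \ {0}) = ⊤ := by
    rw [Ideal.span_sdiff_singleton_zero, hs]
  have hle : ∀ g : (s \ {0} : Set R), Submonoid.powers g.1 ≤ nonZeroDivisors R := fun g =>
    powers_le_nonZeroDivisors_of_noZeroDivisors g.2.2
  have hdom (g : (s \ {0} : Set R)) : IsDomain (Localization.Away g.1) :=
    IsLocalization.isDomain_localization (hle g)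
  let lft (g : (s \ {0} : Set R)) : Localization.Away g.1 →+* K :=
    IsLocalization.lift (M := Submonoid.powers g.1) (g := algebraMap R K) (fun y =>
      IsLocalization.map_units K (⟨y.1, hle g y.2⟩ : nonZeroDivisors R))
  letI (g : (s \ {0} : Set R)) : Algebra (Localization.Away g.1) K := (lft g).toAlgebra
  haveI (g : (s \ {0} : Set R)) : IsScalarTower R (Localization.Away g.1) K :=
    IsScalarTower.of_algebraMap_eq fun r => (IsLocalization.lift_eq _ r).symm
  haveI (g : (s \ {0} : Set R)) : IsFractionRing (Localization.Away g.1) K :=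
    IsFractionRing.isFractionRing_of_isDomain_of_isLocalization (Submonoid.powers g.1) _ K
  refine finite_ic_of_span_eq_top R K (s \ {0}) hs' (fun g => Localization.Away g.1) fun g => ?_
  exact (Groth.Agent.CalgA.NagataBasic.isN1_iff K).mp (h g.1 g.2.1 g.2.2 (Localization.Away g.1))

/-- N-1 is invariant under ring isomorphisms. -/
theorem isN1_of_ringEquiv {R S : Type u} [CommRing R] [CommRing S] [IsDomain R] [IsDomain S]
    (e : R ≃+* S) (h : IsN1 R) : IsN1 S := by
  letI : Algebra R S := (e : R →+* S).toAlgebra
  haveI : IsLocalization.Away (1 : R) S :=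
    IsLocalization.away_of_isUnit_of_bijective S isUnit_one e.bijective
  exact isN1_of_isLocalization (Submonoid.powers (1 : R)) (by rw [Submonoid.powers_one]; exact bot_le) h

/-- Faithfully flat descent of the N-1 property. -/
theorem isN1_of_faithfullyFlat {R S : Type u} [CommRing R] [IsDomain R] [CommRing S] [Algebra R S]
    [IsNoetherianRing S] [Module.FaithfullyFlat R S]
    (h : Module.Finite S (integralClosure S (S ⊗[R] FractionRing R))) : IsN1 R := by
  let K := FractionRing R
  let ι : integralClosure R K →ₗ[R] K := (integralClosure R K).val.toLinearMap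
  let φ : S ⊗[R] integralClosure R K →ₗ[S] S ⊗[R] K := ι.baseChange S
  have hφ : Function.Injective φ := by
    apply Module.Flat.lTensor_preserves_injective_linearMap (M := S) ι
    exact Subtype.val_injective
  have hmem : ∀ z, φ z ∈ Subalgebra.toSubmodule (integralClosure S (S ⊗[R] K)) := by
    intro z
    induction z using TensorProduct.induction_on with
    | zero => rw [map_zero]; exact Submodule.zero_mem _
    | tmul a x =>
      change a ⊗ₜ[R] (x : K) ∈ integralClosure S (S ⊗[R] K)
      have h1 : IsIntegral S ((1 : S) ⊗ₜ[R] (x : K) : S ⊗[R] K) := by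
        have := x.2.map (Algebra.TensorProduct.includeRight : K →ₐ[R] S ⊗[R] K)
        exact this.tower_top
      have h2 : (a ⊗ₜ[R] (x : K) : S ⊗[R] K) = a • ((1 : S) ⊗ₜ[R] (x : K)) := by
        rw [TensorProduct.smul_tmul', smul_eq_mul, mul_one]
      rw [h2]
      exact Subalgebra.smul_mem _ h1 a
    | add x y hx hy => rw [map_add]; exact Submodule.add_mem _ hx hy
  have hN' : IsNoetherian S (Subalgebra.toSubmodule (integralClosure S (S ⊗[R] K))) :=
    isNoetherian_of_isNoetherianRing_of_finite S (integralClosure S (S ⊗[R] K))
  have hfin' : Module.Finite S (S ⊗[R] integralClosure R K) :=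
    Module.Finite.of_injective (φ.codRestrict _ hmem) (fun a b h => hφ (congrArg Subtype.val h))
  exact Module.Finite.of_finite_tensorProduct_of_faithfullyFlat S

/-- `S ⊗ Frac R` is a localization of `S` at nonzerodivisors when `S` is flat over the domain `R`. -/
theorem isLocalization_tensor_fractionRing {R S : Type u} [CommRing R] [IsDomain R] [CommRing S]
    [Algebra R S] :
    IsLocalization (Algebra.algebraMapSubmonoid S (nonZeroDivisors R)) (S ⊗[R] FractionRing R) := by
  infer_instance

theorem algebraMapSubmonoid_le {R S : Type u} [CommRing R] [IsDomain R] [CommRing S]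
    [Algebra R S] [Module.Flat R S] :
    Algebra.algebraMapSubmonoid S (nonZeroDivisors R) ≤ nonZeroDivisors S := by
  rintro _ ⟨r, hr, rfl⟩
  have h1 : IsSMulRegular R r := by
    rw [isSMulRegular_iff_right_eq_zero_of_smul]
    intro x hx
    rw [smul_eq_mul, mul_comm] at hx
    exact (mem_nonZeroDivisors_iff_right.mp hr) x hx
  have h2 : IsSMulRegular S (algebraMap R S r) := h1.of_flat
  rw [mem_nonZeroDivisors_iff_right]
  intro x hx
  rw [isSMulRegular_iff_right_eq_zero_of_smul] at h2
  apply h2
  rw [smul_eq_mul, mul_comm]
  exact hx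

end K72.NagLocal
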