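import Mathlib.Topology.Algebra.InfiniteSum.Nonarchimedean
import Mathlib.Topology.Algebra.OpenSubgroup
import Mathlib.Topology.GDelta.Basic
import Mathlib.Topology.Algebra.InfiniteSum.NatInt

/-!
# The open mapping dichotomy for linearly topologized groups (helper72)
-/

set_option autoImplicit false
universe u v

open Topology Filter

namespace K72.OpenMapLin

variable {N : Type u} {M : Type v} [AddCommGroup N] [AddCommGroup M] [UniformSpace N] [IsUniformAddGroup N]
  [TopologicalSpace M] [IsTopologicalAddGroup M]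

/-- The closure of the image of an open subgroup. -/
def W (u : N →+ M) (V : OpenAddSubgroup N) : AddSubgroup M :=
  ((V : AddSubgroup N).map u).topologicalClosure

theorem coe_W (u : N →+ M) (V : OpenAddSubgroup N) : (W u V : Set M) = closure (u '' (V : Set N)) := by
  rw [W, AddSubgroup.topologicalClosure_coe, AddSubgroup.coe_map]
  rfl

theorem isOpen_W (u : N →+ M) (V : OpenAddSubgroup N) (h : ¬ IsNowhereDense (u '' (V : Set N))) :
    IsOpen (W u V : Set M) := by
  rw [IsNowhereDense, ← coe_W] at h
  obtain ⟨g, hg⟩ := Set.nonempty_iff_ne_empty.mpr h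
  exact AddSubgroup.isOpen_of_mem_nhds (W u V) (mem_interior_iff_mem_nhds.mp hg)

theorem exists_chain [NonarchimedeanAddGroup N] [FirstCountableTopology N] (V : OpenAddSubgroup N) :
    ∃ v : ℕ → OpenAddSubgroup N, v 0 = V ∧ (∀ n, v (n + 1) ≤ v n) ∧
      ∀ U ∈ 𝓝 (0 : N), ∃ n, (v n : Set N) ⊆ U := by
  obtain ⟨b, hb⟩ := (𝓝 (0 : N)).exists_antitone_basis
  have h1 : ∀ n, ∃ V' : OpenAddSubgroup N, (V' : Set N) ⊆ b n := fun n =>
    NonarchimedeanAddGroup.is_nonarchimedean _ (hb.1.mem_of_mem trivial)
  choose V' hV' using h1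
  let v : ℕ → OpenAddSubgroup N := fun n => Nat.rec V (fun n W => W ⊓ V' n) n
  refine ⟨v, rfl, fun n => ?_, fun U hU => ?_⟩
  · exact inf_le_left
  · obtain ⟨n, -, hn⟩ := hb.1.mem_iff.mp hU
    refine ⟨n + 1, ?_⟩
    intro x hx
    have h2 : v (n + 1) ≤ V' n := inf_le_right
    exact hn (hV' n (h2 hx))

/-- If no image of an open subgroup is nowhere dense, the map is open. -/
theorem isOpenMap [T2Space M] [T2Space N] [CompleteSpace N] [NonarchimedeanAddGroup N]
    [FirstCountableTopology N] (u : N →+ M) (hu : Continuous u)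
    (h : ∀ V : OpenAddSubgroup N, ¬ IsNowhereDense (u '' (V : Set N))) : IsOpenMap u := by
  have key : ∀ V : OpenAddSubgroup N, (W u V : Set M) ⊆ u '' (V : Set N) := by
    intro V y hy
    obtain ⟨v, hv0, hv, hvU⟩ := exists_chain V
    have hanti : Antitone v := antitone_nat_of_succ_le hv
    -- approximation step
    have step : ∀ (n : ℕ) (r : W u (v n)), ∃ x : N, x ∈ v n ∧ (r : M) - u x ∈ W u (v (n + 1)) := by
      intro n r
      have h1 : (r : M) ∈ closure (u '' (v n : Set N)) := by rw [← coe_W]; exact r.2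
      have h2 : {z : M | (r : M) - z ∈ W u (v (n + 1))} ∈ 𝓝 (r : M) := by
        have hc : Continuous fun z : M => (r : M) - z := by fun_prop
        apply hc.continuousAt.preimage_mem_nhds
        rw [sub_self]
        exact (isOpen_W u _ (h _)).mem_nhds (W u (v (n + 1))).zero_mem
      obtain ⟨z, hz, x, hx, rfl⟩ := mem_closure_iff_nhds.mp h1 _ h2
      exact ⟨x, hx, hz⟩
    choose f hf hf' using step
    have hy0 : y ∈ W u (v 0) := by rw [hv0]; exact hy
    obtain ⟨r, hr0, hrs⟩ : ∃ r : (n : ℕ) → W u (v n), (r 0 : M) = y ∧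
        ∀ n, (r (n + 1) : M) = r n - u (f n (r n)) :=
      ⟨fun n => Nat.rec (motive := fun n => W u (v n)) ⟨y, hy0⟩
        (fun n r => ⟨(r : M) - u (f n r), hf' n r⟩) n, rfl, fun n => rfl⟩
    let x : ℕ → N := fun n => f n (r n)
    have hx : ∀ n, x n ∈ v n := fun n => hf n (r n)
    have hx0 : Tendsto x cofinite (𝓝 0) := by
      rw [Nat.cofinite_eq_atTop, tendsto_def]
      intro U hU
      obtain ⟨n, hn⟩ := hvU U hU
      rw [mem_atTop_sets]
      exact ⟨n, fun m hm => hn (hanti hm (hx m))⟩
    have hsum : Summable x := NonarchimedeanAddGroup.summable_of_tendsto_cofinite_zero hx0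
    have htends : Tendsto (fun n => ∑ i ∈ Finset.range n, x i) atTop (𝓝 (∑' i, x i)) :=
      hsum.hasSum.tendsto_sum_nat
    refine ⟨∑' i, x i, ?_, ?_⟩
    · have hcl : IsClosed (V : Set N) := V.isClosed
      refine hcl.mem_of_tendsto htends (Eventually.of_forall fun n => ?_)
      have : ∑ i ∈ Finset.range n, x i ∈ (V : AddSubgroup N) := by
        refine AddSubgroup.sum_mem _ ?_
        intro i _
        have h5 : x i ∈ v 0 := hanti (Nat.zero_le i) (hx i)
        rw [hv0] at h5
        exact h5
      exact this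
    · -- `y - u (s n) = r n → 0`
      have hrem : ∀ n, y - u (∑ i ∈ Finset.range n, x i) = r n := by
        intro n
        induction n with
        | zero => simp [hr0]
        | succ n ih =>
          rw [Finset.sum_range_succ, map_add, ← sub_sub, ih, hrs]
      have ht1 : Tendsto (fun n => (r n : M)) atTop (𝓝 (y - u (∑' i, x i))) := by
        have := (hu.tendsto (∑' i, x i)).comp htends
        have h3 : Tendsto (fun n => y - u (∑ i ∈ Finset.range n, x i)) atTop (𝓝 (y - u (∑' i, x i))) :=
          this.const_sub y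
        simpa only [hrem] using h3
      have ht2 : Tendsto (fun n => (r n : M)) atTop (𝓝 0) := by
        rw [(closed_nhds_basis (0 : M)).tendsto_right_iff]
        rintro U ⟨hU, hUc⟩
        obtain ⟨n, hn⟩ := hvU (u ⁻¹' U) (hu.continuousAt.preimage_mem_nhds (by rw [map_zero]; exact hU))
        rw [eventually_atTop]
        refine ⟨n, fun m hm => ?_⟩
        have h4 : (r m : M) ∈ closure (u '' (v m : Set N)) := by rw [← coe_W]; exact (r m).2
        refine (closure_minimal ?_ hUc) h4
        rintro _ ⟨z, hz, rfl⟩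
        exact hn (hanti hm hz)
      have := tendsto_nhds_unique ht1 ht2
      rw [sub_eq_zero] at this
      exact this.symm
  -- openness
  intro U hU
  rw [isOpen_iff_mem_nhds]
  rintro _ ⟨a, ha, rfl⟩
  have h1 : {z : N | a + z ∈ U} ∈ 𝓝 (0 : N) := by
    have hc : Continuous fun z : N => a + z := by fun_prop
    apply hc.continuousAt.preimage_mem_nhds
    rw [add_zero]
    exact hU.mem_nhds ha
  obtain ⟨V, hV⟩ := NonarchimedeanAddGroup.is_nonarchimedean _ h1
  have h2 : {y : M | y - u a ∈ W u V} ∈ 𝓝 (u a) := by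
    have hc : Continuous fun y : M => y - u a := by fun_prop
    apply hc.continuousAt.preimage_mem_nhds
    rw [sub_self]
    exact (isOpen_W u _ (h _)).mem_nhds (W u V).zero_mem
  refine Filter.mem_of_superset h2 ?_
  intro y hy
  obtain ⟨z, hz, hzy⟩ := key V hy
  refine ⟨a + z, hV hz, ?_⟩
  rw [map_add, hzy]
  abel

/-- An open map does not send an open subgroup to a nowhere dense set. -/
theorem not_isNowhereDense (u : N →+ M) (hu : IsOpenMap u) (V : OpenAddSubgroup N) :
    ¬ IsNowhereDense (u '' (V : Set N)) := by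
  intro h
  have h1 : IsOpen (u '' (V : Set N)) := hu _ V.isOpen
  have h2 : u '' (V : Set N) ⊆ interior (closure (u '' (V : Set N))) :=
    interior_maximal subset_closure h1
  rw [IsNowhereDense] at h
  rw [h] at h2
  exact h2 ⟨0, V.zero_mem, map_zero u⟩

end K72.OpenMapLin
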